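import Cfsg.Agent.H623.GU.Base
import Cfsg.Agent.H521.GU.Extremal
import Cfsg.Agent.H466.Sl.NzStep
import Cfsg.Agent.H16.Sl.DefZero
import Cfsg.Agent.H624.Sl.Tw

/-!
# S4537: Lemma A for an abstract tower of realizations

* `nz_step_typ` : the reduction step in terms of the types;
* `GeoA` : the geometric hypothesis;
* `lemmaA_abs` : the block of a character with a `p'`-label of strong stabiliser containing `a` does not vanish on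
  the equivariant elements.
-/

set_option autoImplicit false
set_option linter.unusedSectionVars false

open Cfsg

namespace Cfsg.Agent.H624.SlU

open Cfsg.Agent.H577.GLB.Std Cfsg.Agent.H614 Cfsg.Agent.H614.GLn
open Cfsg.Agent.H112.GLB Cfsg.Agent.H608.BlockRank
open Cfsg.Agent.Blocks.Local Cfsg.Agent.Blocks.Basic Cfsg.Agent.H624.Sl Cfsg.Agent.H623.GU
open Cfsg.Agent.H615.GU (Ty Orb orbSetoid dOrb tdeg)
open Cfsg.Agent.H521.GU (UniT extremal)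
open Cfsg.Agent.H466.Sl (nz_step)

universe u v

theorem pprime_comp {G H : Type*} [Group G] [Group H] {p : ℕ} {ζ : G →* ℂˣ} (hζ : PPrime p ζ)
    (f : H →* G) : PPrime p (ζ.comp f) := by
  obtain ⟨k, hk, hpk, h⟩ := hζ
  exact ⟨k, hk, hpk, fun g => h (f g)⟩

section step

variable {K : Type v} [Field K] [Finite K] {Q : ℤ} {p : ℕ} {𝔐 : Ideal AlgInt} [𝔐.IsPrime]
  {G X₁ X₂ : Type u} [Group G] [Finite G] [Group X₁] [Finite X₁] [Group X₂] [Finite X₂]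

/-- the reduction step in terms of the types -/
theorem nz_step_typ (hM : IsPModular p 𝔐) {ζ : G →* ℂˣ} (hζ : PPrime p ζ) {f k m : ℕ} (hf : 0 < f)
    (j : X₁ × X₂ →* G) (hj : Function.Injective j) (u : G) (hu : ∃ a : ℕ, orderOf u = p ^ a)
    (hr : j.range = Subgroup.centralizer ({u} : Set G))
    {b₁ : Set (IrrCharacter X₁)} {b₂ : Set (IrrCharacter X₂)} {B : Set (IrrCharacter G)}
    (hb₁ : IsPBlock 𝔐 b₁) (hb₂ : IsPBlock 𝔐 b₂)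
    (hind : IsInducedBlock 𝔐 (Subgroup.centralizer ({u} : Set G))
      (prodBlk (Subgroup.centralizer ({u} : Set G)) j b₁ b₂) B)
    (typ : G → Ty (Orb K Q)) (typ₁ : X₁ → Ty (Orb K (Q ^ f))) (typ₂ : X₂ → Ty (Orb K Q))
    (hconj : ∀ x y : G, IsConj x y → typ x = typ y) (hsep₁ : ∀ x y : X₁, typ₁ x = typ₁ y → IsConj x y)
    (hsep₂ : ∀ x y : X₂, typ₂ x = typ₂ y → IsConj x y) (hdeg₁ : ∀ x, tdeg (dOrb K (Q ^ f)) (typ₁ x) = k)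
    (hdeg₂ : ∀ x, tdeg (dOrb K Q) (typ₂ x) = m)
    (htyp : ∀ (y₁ : X₁) (y₂ : X₂) (x : Kˣ) (i : ℕ), typ (j (y₁, y₂)) (Quotient.mk (orbSetoid K Q) x) i =
      ∑ e ∈ Finset.range f, typ₁ y₁ (Quotient.mk (orbSetoid K (Q ^ f)) (x ^ (Q ^ e))) i +
        typ₂ y₂ (Quotient.mk (orbSetoid K Q) x) i)
    (A : ℕ → Prop)
    (hLA : ∀ g : G, (∀ (x : Kˣ) (i : ℕ), typ g (Quotient.mk (orbSetoid K Q) x) i ≠
      typ g (Quotient.mk (orbSetoid K Q) x) (i + 1) → A (i + 1)) → Subgroup.centralizer ({g} : Set G) ≤ ζ.ker)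
    (hLA₁ : ∀ g : X₁, Subgroup.centralizer ({g} : Set X₁) ≤ (ζ.comp (j.comp (MonoidHom.inl X₁ X₂))).ker →
      ∀ (x : Kˣ) (i : ℕ), typ₁ g (Quotient.mk (orbSetoid K (Q ^ f)) x) i ≠
        typ₁ g (Quotient.mk (orbSetoid K (Q ^ f)) x) (i + 1) → A (i + 1))
    (hLA₂ : ∀ g : X₂, Subgroup.centralizer ({g} : Set X₂) ≤ (ζ.comp (j.comp (MonoidHom.inr X₁ X₂))).ker →
      ∀ (x : Kˣ) (i : ℕ), typ₂ g (Quotient.mk (orbSetoid K Q) x) i ≠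
        typ₂ g (Quotient.mk (orbSetoid K Q) x) (i + 1) → A (i + 1))
    (h₁ : ∃ x, UniT (Q ^ f) (typ₁ x) ∧ Nz 𝔐 (ζ.comp (j.comp (MonoidHom.inl X₁ X₂))) b₁ x)
    (h₂ : ∃ x, Nz 𝔐 (ζ.comp (j.comp (MonoidHom.inr X₁ X₂))) b₂ x) : ∃ x, Nz 𝔐 ζ B x := by
  obtain ⟨x₀, hx₀, hx₀'⟩ := h₁
  obtain ⟨y₀, hy₀⟩ := h₂
  obtain ⟨t₁, ⟨x₁, hx₁, ht₁⟩, -, t₂, ⟨x₂, hx₂, ht₂⟩, hext⟩ := extremal Q hf k m
    (typ₁ '' {x | Nz 𝔐 (ζ.comp (j.comp (MonoidHom.inl X₁ X₂))) b₁ x})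
    (typ₂ '' {x | Nz 𝔐 (ζ.comp (j.comp (MonoidHom.inr X₁ X₂))) b₂ x})
    (by rintro _ ⟨x, -, rfl⟩; exact hdeg₁ x) (by rintro _ ⟨x, -, rfl⟩; exact hdeg₂ x)
    ⟨_, ⟨x₀, hx₀', rfl⟩, hx₀⟩ ⟨_, ⟨y₀, hy₀, rfl⟩⟩
  refine ⟨j (x₁, x₂), nz_step hM hζ j hj u hu hr hb₁ hb₂ hind x₁ x₂ hx₁ hx₂ (hLA _ ?_) ?_⟩
  · intro x i hi
    rw [htyp, htyp] at hi
    by_cases h : typ₂ x₂ (Quotient.mk (orbSetoid K Q) x) i = typ₂ x₂ (Quotient.mk (orbSetoid K Q) x) (i + 1)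
    · have h3 : ∃ e ∈ Finset.range f, typ₁ x₁ (Quotient.mk (orbSetoid K (Q ^ f)) (x ^ (Q ^ e))) i ≠
          typ₁ x₁ (Quotient.mk (orbSetoid K (Q ^ f)) (x ^ (Q ^ e))) (i + 1) := by
        by_contra hcon
        push Not at hcon
        exact hi (by rw [Finset.sum_congr rfl hcon, h])
      obtain ⟨e, -, he⟩ := h3
      exact hLA₁ x₁ hx₁.1 _ _ he
    · exact hLA₂ x₂ hx₂.1 _ _ h
  · intro y₁ y₂ hy₁ hy₂ hc
    have h3 := hconj _ _ hc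
    obtain ⟨h4, h5⟩ := hext (typ₁ y₁) ⟨y₁, hy₁, rfl⟩ (typ₂ y₂) ⟨y₂, hy₂, rfl⟩ (fun x l => by
      rw [← ht₁, ← ht₂, ← htyp, ← htyp, h3])
    exact ⟨hsep₁ _ _ (h4.trans ht₁.symm), hsep₂ _ _ (h5.trans ht₂.symm)⟩

end step

section tower

variable {K : Type v} [Field K] {Q : ℤ} {M : ℕ} [NeZero M] {p N : ℕ} {G : ℕ → Type u}
  [∀ n, Group (G n)] [∀ n, Finite (G n)]

/-- the geometric hypothesis for Lemma A -/
def GeoA (R : ∀ n, n ≤ N → Rz Q M p n (G n)) (𝔐 : Ideal AlgInt) [𝔐.IsPrime] (ζ : ∀ n, G n →* ℂˣ) (a : ZMod M)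
    (typ : ∀ n, n ≤ N → G n → Ty (Orb K Q)) (A : ℕ → Prop) : Prop :=
  ∀ (s f k l n : ℕ) (hl : l ≤ N) (hn : n ≤ N), f = orderOf (Q : ZMod p) * p ^ s → 0 < f → 0 < k → ¬ p ∣ k →
    l + f * k = n →
    ∃ (X₁ : Type u) (_ : Group X₁) (_ : Finite X₁) (R₁ : Rz (Q ^ f) M p k X₁) (j : X₁ × G l →* G n) (u : G n)
      (typ₁ : X₁ → Ty (Orb K (Q ^ f))),
      Gr R₁ ∧ R₁.Bij k ∧ Function.Injective j ∧ (∃ a : ℕ, orderOf u = p ^ a) ∧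
      j.range = Subgroup.centralizer ({u} : Set (G n)) ∧ Val (R n hn) R₁ (R l hl) j u ∧
      (ζ n).comp (j.comp (MonoidHom.inr X₁ (G l))) = ζ l ∧
      (∀ (y₁ : X₁) (y₂ : G l) (x : Kˣ) (i : ℕ), typ n hn (j (y₁, y₂)) (Quotient.mk (orbSetoid K Q) x) i =
        ∑ e ∈ Finset.range f, typ₁ y₁ (Quotient.mk (orbSetoid K (Q ^ f)) (x ^ (Q ^ e))) i +
          typ l hl y₂ (Quotient.mk (orbSetoid K Q) x) i) ∧
      (∀ x y : X₁, typ₁ x = typ₁ y → IsConj x y) ∧ (∀ x, tdeg (dOrb K (Q ^ f)) (typ₁ x) = k) ∧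
      (∀ g : X₁, Subgroup.centralizer ({g} : Set X₁) ≤ ((ζ n).comp (j.comp (MonoidHom.inl X₁ (G l)))).ker →
        ∀ (x : Kˣ) (i : ℕ), typ₁ g (Quotient.mk (orbSetoid K (Q ^ f)) x) i ≠
          typ₁ g (Quotient.mk (orbSetoid K (Q ^ f)) x) (i + 1) → A (i + 1)) ∧
      (∀ x ∈ Hom (Q ^ f) M k, R₁.om (twist (Q ^ f) M a x) =
        (fun g => ((ζ n (j (g, 1)) : ℂˣ) : ℂ)) * R₁.om x) ∧
      ∀ (δ : ZMod M) (θ₀ : IrrCharacter X₁), perZ (Q ^ f) M δ = k → TorZ (Q ^ f) M k δ →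
        (∃ s' : ℤˣ, R₁.om (rv (Q ^ f) M k δ) = ((s' : ℤ) : ℂ) • (θ₀ : X₁ → ℂ)) →
        FixIrr ((ζ n).comp (j.comp (MonoidHom.inl X₁ (G l)))) (θ₀ : X₁ → ℂ) →
        ∃ x, UniT (Q ^ f) (typ₁ x) ∧
          Nz 𝔐 ((ζ n).comp (j.comp (MonoidHom.inl X₁ (G l)))) (blockOf 𝔐 (θ₀ : X₁ → ℂ)) x

theorem torZ_pow {a : ZMod M} (ha : TorZ Q M 1 a) (f : ℕ) : TorZ (Q ^ f) M 1 a := by
  have h1 : (Q : ZMod M) * a = a := by
    have h2 : ((Q : ZMod M) ^ 1 - 1) * a = 0 := ha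
    rw [pow_one, sub_mul, one_mul, sub_eq_zero] at h2
    exact h2
  have h2 : ∀ i : ℕ, (Q : ZMod M) ^ i * a = a := by
    intro i
    induction i with
    | zero => rw [pow_zero, one_mul]
    | succ i ih => rw [pow_succ, mul_assoc, h1, ih]
  change (((Q ^ f : ℤ) : ZMod M) ^ 1 - 1) * a = 0
  rw [Int.cast_pow, pow_one, sub_mul, one_mul, h2, sub_self]

/-- **Lemma A**, abstract. -/
theorem lemmaA_abs [Finite K] {R : ∀ n, n ≤ N → Rz Q M p n (G n)} {𝔐 : Ideal AlgInt} [𝔐.IsPrime]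
    (hQ : IsUnit (Q : ZMod M)) (hQp : IsUnit (Q : ZMod p))
    (hbij : ∀ (n m : ℕ) (hn : n ≤ N), n ≤ m → (R n hn).Bij m)
    (hgr : ∀ n (hn : n ≤ N), Gr (R n hn)) (h𝔐 : IsPModular p 𝔐)
    (ζ : ∀ n, G n →* ℂˣ) (hζ : ∀ n, n ≤ N → PPrime p (ζ n)) (a : ZMod M)
    (hl : ∀ n (hn : n ≤ N), ∀ x ∈ Hom Q M n,
      (R n hn).om (twist Q M a x) = (fun g => ((ζ n g : ℂˣ) : ℂ)) * (R n hn).om x)
    (typ : ∀ n, n ≤ N → G n → Ty (Orb K Q)) (hconj : ∀ n (hn : n ≤ N) (x y : G n), IsConj x y → typ n hn x = typ n hn y)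
    (hsep : ∀ n (hn : n ≤ N) (x y : G n), typ n hn x = typ n hn y → IsConj x y)
    (hdeg : ∀ n (hn : n ≤ N) (x : G n), tdeg (dOrb K Q) (typ n hn x) = n) (A : ℕ → Prop)
    (hLA : ∀ n (hn : n ≤ N) (g : G n), (∀ (x : Kˣ) (i : ℕ), typ n hn g (Quotient.mk (orbSetoid K Q) x) i ≠
      typ n hn g (Quotient.mk (orbSetoid K Q) x) (i + 1) → A (i + 1)) →
        Subgroup.centralizer ({g} : Set (G n)) ≤ (ζ n).ker)
    (hLA' : ∀ n (hn : n ≤ N) (g : G n), Subgroup.centralizer ({g} : Set (G n)) ≤ (ζ n).ker →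
      ∀ (x : Kˣ) (i : ℕ), typ n hn g (Quotient.mk (orbSetoid K Q) x) i ≠
        typ n hn g (Quotient.mk (orbSetoid K Q) x) (i + 1) → A (i + 1))
    (hgeo : GeoA R 𝔐 ζ a typ A) {m : ℕ} (w : ℕ) : ∀ {n : ℕ} (hn : n ≤ N) (_ : n ≤ m)
    {B : Set (IrrCharacter (G n))} (_ : IsPBlock 𝔐 B) {χ : IrrCharacter (G n)} (_ : χ ∈ B) {t : LabZ Q M m n}
    (_ : (R n hn).IsLb χ t) (_ : POnly M p t.t) (_ : SF Q M p t a) (_ : totW Q M p t.t = w),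
    ∃ x, Nz 𝔐 (ζ n) B x := by
  have hp : p.Prime := h𝔐.1
  induction w using Nat.strong_induction_on with
  | _ w ih =>
  intro n hn hm B hB χ hχ t ht ht' ha hw
  rcases Nat.eq_zero_or_pos w with h0 | h0
  · rw [h0] at hw
    have h1 := base_zero hp hQp hm ht ht' hw
    have h2 : FixIrr (ζ n) (χ : G n → ℂ) := by
      intro g hg
      have h3 := fix_zero hp hQp hm ht ht' hw ha (hl n hn) g hg
      exact Units.ext h3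
    rw [isPBlock_eq_blockOf hB hχ]
    exact Cfsg.Agent.H16.Sl.exists_nz_of_defect_zero' h𝔐 χ (fun hz hn' => exists_nz h𝔐 (hζ n hn) hz hn') h1 h2
  · obtain ⟨s, f, k, l, hlN, δ, χ₂, t₂, hf, hf0, hk, hpk, hlk, hδ, hper, htor, horb, ht₂, ht₂', hw₂, hSF, hind⟩ :=
      red hQ hQp hbij hgr h𝔐 hn hm hB hχ ht ht' (by rw [hw]; exact h0)
    obtain ⟨X₁, _, _, R₁, j, u, typ₁, hgr₁, hbij₁, hj, hu, hr, hval, hinr, htyp, hsep₁, hdeg₁, hLA₁, htw, hT4⟩ :=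
      hgeo s f k l n hlN hn hf hf0 hk hpk hlk
    obtain ⟨θ₀, hθ₀⟩ := exists_cusp hk R₁ hbij₁ hper
    have hind' := hind X₁ R₁ hgr₁ j hj u hu hr hval θ₀ hθ₀
    have hfix : FixIrr ((ζ n).comp (j.comp (MonoidHom.inl X₁ (G l)))) (θ₀ : X₁ → ℂ) := by
      intro g hg
      obtain ⟨s', hs'⟩ := hθ₀
      exact Units.ext (cusp_fix hk (torZ_pow ha.1.1 f) htor (horb a ha) hs' htw g hg)
    obtain ⟨x₂, hx₂⟩ := ih (totW Q M p t₂.t) (by omega) hlN (by omega) (isPBlock_blockOf (M := 𝔐) χ₂)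
      (mem_blockOf_self χ₂) ht₂ ht₂' (hSF a ha) rfl
    exact nz_step_typ h𝔐 (hζ n hn) hf0 j hj u hu hr ⟨θ₀, rfl⟩ (isPBlock_blockOf χ₂) hind' (typ n hn) typ₁ (typ l hlN)
      (hconj n hn) hsep₁ (hsep l hlN) hdeg₁ (hdeg l hlN) htyp A (hLA n hn) hLA₁
      (by rw [hinr]; exact hLA' l hlN) (hT4 δ θ₀ hper htor hθ₀ hfix) ⟨x₂, by rw [hinr]; exact hx₂⟩

end tower

end Cfsg.Agent.H624.SlU
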