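import Mathlib.Algebra.Polynomial.Roots
import Mathlib.Analysis.Complex.Basic
import Mathlib.Algebra.Polynomial.Eval.SMul

/-!
# S4537 (T4-U): the functional `X ^ j ↦ ∏_{i < j} (1 - Q ^ i)`
-/

set_option autoImplicit false
set_option linter.unusedSectionVars false

namespace Cfsg.Agent.H624.SlU

open Polynomial

/-- the weight -/
noncomputable def wt (Q : ℂ) (j : ℕ) : ℂ := ∏ i ∈ Finset.Ico 1 j, (1 - Q ^ i)

theorem wt_succ (Q : ℂ) (j : ℕ) : wt Q (j + 2) = wt Q (j + 1) * (1 - Q ^ (j + 1)) := by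
  rw [wt, wt, Finset.prod_Ico_succ_top (by omega)]

theorem wt_one (Q : ℂ) : wt Q 1 = 1 := by rw [wt, Finset.Ico_self, Finset.prod_empty]

/-- the functional -/
noncomputable def Lam (Q : ℂ) : ℂ[X] →ₗ[ℂ] ℂ := Polynomial.lsum fun j => (wt Q j) • LinearMap.id

theorem Lam_X_pow (Q : ℂ) (j : ℕ) : Lam Q (X ^ j) = wt Q j := by
  rw [Lam, Polynomial.lsum_apply, ← Polynomial.monomial_one_right_eq_X_pow,
    Polynomial.sum_monomial_index _ _ (by simp)]
  simp

theorem Lam_C_mul (Q a : ℂ) (f : ℂ[X]) : Lam Q (C a * f) = a * Lam Q f := by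
  rw [← Polynomial.smul_eq_C_mul, map_smul, smul_eq_mul]

theorem Lam_P (Q : ℂ) (m : ℕ) : ∀ s : ℕ, Lam Q (X ^ (s + 1) * ∏ i ∈ Finset.range m, (X - C (Q ^ i))) =
    (-1) ^ m * Q ^ (m * s + ∑ i ∈ Finset.range (m + 1), i) * wt Q (s + 1) := by
  induction m with
  | zero =>
    intro s
    rw [Finset.range_zero, Finset.prod_empty, mul_one, Lam_X_pow]
    simp
  | succ m ih =>
    intro s
    have h1 : X ^ (s + 1) * ∏ i ∈ Finset.range (m + 1), (X - C (Q ^ i)) =
        X ^ (s + 1 + 1) * ∏ i ∈ Finset.range m, (X - C (Q ^ i)) -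
          C (Q ^ m) * (X ^ (s + 1) * ∏ i ∈ Finset.range m, (X - C (Q ^ i))) := by
      rw [Finset.prod_range_succ]
      ring
    rw [h1, map_sub, Lam_C_mul, ih, ih, wt_succ, Finset.sum_range_succ _ (m + 1)]
    generalize hE : ∑ i ∈ Finset.range (m + 1), i = E
    have h2 : (m + 1) * s + (E + (m + 1)) = m * s + E + m + (s + 1) := by ring
    have h3 : m * (s + 1) + E = m * s + E + m := by ring
    rw [h2, h3]
    ring

theorem sum_wt {U : Type*} [Finite U] (a : U → ℂ) (κ : U → ℕ) (Q : ℂ) {n : ℕ} (hn : 0 < n)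
    (h : ∀ y : ℂ, ∑ᶠ u, a u * y ^ κ u = y * ∏ i ∈ Finset.range (n - 1), (y - Q ^ i)) :
    ∑ᶠ u, a u * wt Q (κ u) = (-1) ^ (n - 1) * Q ^ (∑ i ∈ Finset.range n, i) := by
  have := Fintype.ofFinite U
  rw [finsum_eq_sum_of_fintype]
  have h1 : ∑ u, C (a u) * X ^ κ u = X ^ (0 + 1) * ∏ i ∈ Finset.range (n - 1), (X - C (Q ^ i)) := by
    refine Polynomial.funext fun y => ?_
    have h2 := h y
    rw [finsum_eq_sum_of_fintype] at h2
    rw [Polynomial.eval_finsetSum]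
    simp only [eval_mul, eval_C, eval_pow, eval_X, eval_prod, eval_sub, zero_add, pow_one]
    exact h2
  have h3 := congrArg (Lam Q) h1
  rw [Lam_P, map_sum, zero_add, wt_one, mul_zero, zero_add, mul_one, Nat.sub_add_cancel hn] at h3
  rw [← h3]
  refine Finset.sum_congr rfl fun u _ => ?_
  rw [Lam_C_mul, Lam_X_pow]

end Cfsg.Agent.H624.SlU
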