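import Cfsg.Agent.H624.SlU.GU
import Cfsg.Agent.H624.Sl.WFour
import Cfsg.Agent.H615.GU.Grp
import Cfsg.Agent.S0277
import Cfsg.Agent.ClassicalGeometry.GUBasic

/-!
# S4537 (T4-U): the blocks of central defect of `GU_k(q)` do not vanish on the unipotent elements
-/

set_option autoImplicit false
set_option linter.unusedSectionVars false

open Cfsg Polynomial
open scoped MatrixGroups

namespace Cfsg.Agent.H624.SlU

open Cfsg.Agent.H644 Cfsg.Agent.Blocks.Local Cfsg.Agent.H648.Dict Cfsg.Agent.H624.Sl Cfsg.Agent.H615.GU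

universe u

/-- the factors of the order of `GU_n(q)` -/
def rr (q i : ℕ) : ℕ := if Even i then q ^ (i + 1) + 1 else q ^ (i + 1) - 1

theorem rr_pos {q : ℕ} (hq : 2 ≤ q) (i : ℕ) : 0 < rr q i := by
  rw [rr]
  split_ifs
  · omega
  · have := Nat.one_lt_pow (show i + 1 ≠ 0 by omega) (show 1 < q by omega)
    omega

theorem rr_cast {q : ℕ} (hq : 2 ≤ q) (i : ℕ) : ((rr q i : ℕ) : ℤ) = (-1) ^ i * (1 - (-(q : ℤ)) ^ (i + 1)) := by
  rw [rr, neg_pow (q : ℤ) (i + 1)]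
  split_ifs with h
  · rw [h.neg_one_pow, h.add_one.neg_one_pow]
    push_cast
    ring
  · rw [Nat.not_even_iff_odd] at h
    have h1 : 1 ≤ q ^ (i + 1) := Nat.one_le_pow _ _ (by omega)
    rw [h.neg_one_pow, h.add_one.neg_one_pow, Nat.cast_sub h1]
    push_cast
    ring

theorem rr_eq {q : ℕ} (hq : 2 ≤ q) (k : ℕ) :
    ((rr q k : ℕ) : ℤ) = (q + 1) * ∑ i ∈ Finset.range (k + 1), (q : ℤ) ^ i * (-1) ^ (k + 1 - 1 - i) := by
  have h1 := (Commute.all (q : ℤ) (-1)).geom_sum₂_mul (k + 1)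
  rw [sub_neg_eq_add] at h1
  rw [rr_cast hq, mul_comm ((q : ℤ) + 1), h1, neg_pow (q : ℤ) (k + 1)]
  have h2 : ((-1 : ℤ)) ^ k * (-1) ^ k = 1 := by rw [← mul_pow]; norm_num
  rw [pow_succ (-1 : ℤ) k]
  linear_combination (q : ℤ) ^ (k + 1) * h2

/-- `(q^k - (-1)^k)_p = (q + 1)_p` if `p` divides `q + 1` but not `k`. -/
theorem fact_rr {p q m : ℕ} (_hp : p.Prime) (hq : 2 ≤ q) (h : p ∣ q + 1) (hm : ¬ p ∣ m + 1) :
    (rr q m).factorization p = (q + 1).factorization p := by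
  obtain ⟨S, hS⟩ : ∃ S : ℤ, S = ∑ i ∈ Finset.range (m + 1), (q : ℤ) ^ i * (-1) ^ (m + 1 - 1 - i) := ⟨_, rfl⟩
  have h1 := rr_eq hq m
  rw [← hS] at h1
  have h2 : rr q m = (q + 1) * S.natAbs := by
    have h3 := congrArg Int.natAbs h1
    rw [Int.natAbs_natCast, Int.natAbs_mul] at h3
    rw [h3]
    congr 1
  have h3 : ¬ p ∣ S.natAbs := by
    intro h4
    rw [← Int.natCast_dvd_natCast, Int.dvd_natAbs] at h4
    have h5 : ((S : ℤ) : ZMod p) = 0 := (ZMod.intCast_zmod_eq_zero_iff_dvd _ _).2 h4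
    rw [hS] at h5
    have h6 : ((q : ℕ) : ZMod p) = -1 := by
      have h7 : ((q + 1 : ℕ) : ZMod p) = 0 := (ZMod.natCast_eq_zero_iff _ _).2 h
      push_cast at h7
      exact eq_neg_of_add_eq_zero_left h7
    push_cast at h5
    rw [h6, Finset.sum_congr rfl (g := fun _ => (-1 : ZMod p) ^ m) (fun i hi => by
      rw [← pow_add]
      congr 1
      have := Finset.mem_range.1 hi
      omega), Finset.sum_const, Finset.card_range, nsmul_eq_mul] at h5
    apply hm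
    rw [← ZMod.natCast_eq_zero_iff]
    have h8 : ((-1 : ZMod p) ^ m) * (-1) ^ m = 1 := by rw [← mul_pow]; norm_num
    calc ((m + 1 : ℕ) : ZMod p) = ((m + 1 : ℕ) : ZMod p) * (((-1 : ZMod p) ^ m) * (-1) ^ m) := by rw [h8, mul_one]
      _ = (((m + 1 : ℕ) : ZMod p) * (-1) ^ m) * (-1) ^ m := by ring
      _ = 0 := by rw [h5, zero_mul]
  have h4 : S.natAbs ≠ 0 := by
    intro h5
    rw [h5] at h3
    exact h3 (dvd_zero p)
  rw [h2, Nat.factorization_mul (by omega) h4, Finsupp.add_apply,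
    Nat.factorization_eq_zero_of_not_dvd h3, add_zero]

theorem wt_eq {q : ℕ} (hq : 2 ≤ q) (m : ℕ) :
    wt (-(q : ℂ)) (m + 1) = (-1) ^ (∑ i ∈ Finset.range m, i) * ((∏ i ∈ Finset.range m, rr q i : ℕ) : ℂ) := by
  induction m with
  | zero => rw [wt_one]; simp
  | succ m ih =>
    rw [wt_succ, ih, Finset.sum_range_succ, Finset.prod_range_succ, pow_add, Nat.cast_mul]
    have h1 : ((rr q m : ℕ) : ℂ) = (-1) ^ m * (1 - (-(q : ℂ)) ^ (m + 1)) := by
      have := rr_cast hq m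
      exact_mod_cast congrArg (Int.cast : ℤ → ℂ) this
    rw [h1]
    have h2 : ((-1 : ℂ)) ^ m * (-1) ^ m = 1 := by rw [← mul_pow]; norm_num
    linear_combination (-(-1) ^ (∑ i ∈ Finset.range m, i) * ((∏ i ∈ Finset.range m, rr q i : ℕ) : ℂ) *
      (1 - (-(q : ℂ)) ^ (m + 1))) * h2

variable {F : Type u} [Field F] [Finite F] {q : ℕ}

theorem card_center (hF : Nat.card F = q ^ 2) {k : ℕ} (hk : 0 < k) :
    Nat.card (Subgroup.center (GU k F q)) = q + 1 := by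
  have := Fintype.ofFinite F
  have hF' : Fintype.card F = q ^ 2 := by rw [← Nat.card_eq_fintype_card]; exact hF
  have hc := Cfsg.Agent.ClassicalGeometry.GUBasic.card_rootsOfUnity_eq hF'
  rw [← hc]
  symm
  refine Nat.card_congr (Equiv.ofBijective (fun c : rootsOfUnity (q + 1) F =>
    (⟨Cfsg.Agent.ClassicalGeometry.GUBasic.guDiag q (fun _ => ((c : Fˣ) : F)) (fun _ => by
      have := (mem_rootsOfUnity _ _).1 c.2
      rw [← Units.val_pow_eq_pow_val, this, Units.val_one]), by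
      apply Cfsg.Agent.ClassicalGeometry.GUBasic.guDiag_const_mem_center⟩ : Subgroup.center (GU k F q)))
    ⟨?_, ?_⟩)
  · intro a b hab
    have h1 := congrArg (fun g : Subgroup.center (GU k F q) => (((g : GU k F q) : GL (Fin k) F) :
      Matrix (Fin k) (Fin k) F) ⟨0, hk⟩ ⟨0, hk⟩) hab
    simp only [Cfsg.Agent.ClassicalGeometry.GUBasic.coe_guDiag, Matrix.diagonal_apply_eq] at h1
    exact Subtype.ext (Units.ext h1)
  · rintro ⟨A, hA⟩
    obtain ⟨c, hc, rfl⟩ := (Cfsg.Agent.ClassicalGeometry.GUBasic.mem_center_GU_iff hF' hk A).1 hA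
    have hc0 : c ≠ 0 := by
      rintro rfl
      rw [zero_pow (Nat.succ_ne_zero q)] at hc
      exact zero_ne_one hc
    refine ⟨⟨Units.mk0 c hc0, ?_⟩, Subtype.ext rfl⟩
    rw [mem_rootsOfUnity]
    ext
    rw [Units.val_pow_eq_pow_val, Units.val_mk0, hc, Units.val_one]

theorem not_dvd_q {p : ℕ} (hp : p.Prime) (h : p ∣ q + 1) : ¬ p ∣ q := by
  intro h1
  exact hp.one_lt.ne' (Nat.dvd_one.1 ((Nat.dvd_add_right h1).1 h))

theorem fact_card_GU {p m : ℕ} (hF : Nat.card F = q ^ 2) (hp : p.Prime) (h : p ∣ q + 1) (hm : ¬ p ∣ m + 1) :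
    (∏ i ∈ Finset.range m, rr q i).factorization p + (q + 1).factorization p =
      (Nat.card (GU (m + 1) F q)).factorization p := by
  have := Fintype.ofFinite F
  have hF' : Fintype.card F = q ^ 2 := by rw [← Nat.card_eq_fintype_card]; exact hF
  have hq := Cfsg.Agent.H383.Pi.two_le_q hF
  have hq0 : q ^ ((m + 1) * (m + 1 - 1) / 2) ≠ 0 := pow_ne_zero _ (by omega)
  have hpr : ∀ j, ∏ i ∈ Finset.range j, rr q i ≠ 0 := fun j =>
    Finset.prod_ne_zero_iff.2 fun i _ => (rr_pos hq i).ne'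
  have h1 : Nat.card (GU (m + 1) F q) = q ^ ((m + 1) * (m + 1 - 1) / 2) * ∏ i ∈ Finset.range (m + 1), rr q i :=
    Cfsg.Agent.S0277.result hF' (m + 1)
  rw [h1, Nat.factorization_mul hq0 (hpr _), Finsupp.add_apply,
    Nat.factorization_eq_zero_of_not_dvd (fun h3 => not_dvd_q hp h (hp.dvd_of_dvd_pow h3)), zero_add,
    Finset.prod_range_succ, Nat.factorization_mul (hpr _) (rr_pos hq _).ne', Finsupp.add_apply,
    fact_rr hp hq h hm]

/-- T4-U: a character `θ` of `GU_k(q)` with the Green function values on the unipotent elements. -/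
theorem exists_unipotent_nzU {k p : ℕ} {M : Ideal AlgInt} [M.IsPrime] (hM : IsPModular p M)
    (hF : Nat.card F = q ^ 2) (hk : 0 < k) (hp : p ∣ q + 1) (hpk : ¬ p ∣ k) {ζ : GU k F q →* ℂˣ}
    (hζ : PPrime p ζ) (hζd : ∀ g : GU k F q, Matrix.GeneralLinearGroup.det (g : GL (Fin k) F) = 1 → ζ g = 1)
    (θ : IrrCharacter (GU k F q))
    (hθ : ∃ ε : ℤˣ, ∀ u : GU k F q, UniU u → (θ : GU k F q → ℂ) u =
      ((ε : ℤ) : ℂ) * wt (-(q : ℂ)) (kd (u : GL (Fin k) F) (X - 1)))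
    (hf : FixIrr ζ (θ : GU k F q → ℂ)) :
    ∃ x : GU k F q, UniU x ∧ Nz M ζ (blockOf M (θ : GU k F q → ℂ)) x := by
  classical
  have := Fintype.ofFinite F
  have hF' : Fintype.card F = q ^ 2 := by rw [← Nat.card_eq_fintype_card]; exact hF
  have hq := Cfsg.Agent.H383.Pi.two_le_q hF
  have hpp := hM.1
  obtain ⟨m, rfl⟩ : ∃ m, k = m + 1 := ⟨k - 1, by omega⟩
  obtain ⟨ε, hθ⟩ := hθ
  obtain ⟨H, ψ, hcard, huni, hsum⟩ := exists_whittaker (F := F) hF hk
  have hHc : (Nat.card H).Coprime p := by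
    rw [hcard]
    refine Nat.Coprime.pow_left _ ?_
    rw [Nat.coprime_comm, hpp.coprime_iff_not_dvd]
    exact not_dvd_q hpp hp
  have hcu : Nat.card Fˣ = q ^ 2 - 1 := by rw [Nat.card_units, hF]
  have hdet : ∀ u ∈ H, Matrix.GeneralLinearGroup.det ((u : GU (m + 1) F q) : GL (Fin (m + 1)) F) = 1 := by
    intro u hu
    have h1 : orderOf (Matrix.GeneralLinearGroup.det ((u : GU (m + 1) F q) : GL (Fin (m + 1)) F)) ∣
        q ^ (∑ i ∈ Finset.range (m + 1), i) := by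
      rw [← hcard]
      have h2 : orderOf (Matrix.GeneralLinearGroup.det ((u : GU (m + 1) F q) : GL (Fin (m + 1)) F)) ∣
          orderOf (⟨u, hu⟩ : H) :=
        orderOf_map_dvd ((Matrix.GeneralLinearGroup.det.comp (GU (m + 1) F q).subtype).comp H.subtype) ⟨u, hu⟩
      exact h2.trans (orderOf_dvd_natCard _)
    have h3 : orderOf (Matrix.GeneralLinearGroup.det ((u : GU (m + 1) F q) : GL (Fin (m + 1)) F)) ∣ q ^ 2 - 1 := by
      rw [← hcu]
      exact orderOf_dvd_natCard _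
    have h4 : Nat.Coprime (q ^ (∑ i ∈ Finset.range (m + 1), i)) (q ^ 2 - 1) := by
      refine Nat.Coprime.pow_left _ ?_
      have h5 : Nat.Coprime (q ^ 2) (q ^ 2 - 1) := by
        have h6 : 1 ≤ q ^ 2 := Nat.one_le_pow _ _ (by omega)
        have h7 := Nat.coprime_self_add_right (m := 1) (n := q ^ 2 - 1)
        rw [Nat.coprime_comm]
        have h8 : q ^ 2 = (q ^ 2 - 1) + 1 := by omega
        conv_rhs => rw [h8]
        simp
      exact Nat.Coprime.coprime_dvd_left (dvd_pow_self q two_ne_zero) h5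
    exact orderOf_eq_one_iff.1 (Nat.eq_one_of_dvd_coprimes h4 h1 h3)
  have hfin : Fintype H := Fintype.ofFinite _
  rw [finsum_eq_sum_of_fintype] at hsum
  -- the multiplicity is `± 1`
  have hS : ∑ u : H, (θ : GU (m + 1) F q → ℂ) u * (((ψ u)⁻¹ : ℂˣ) : ℂ) =
      ((ε : ℤ) : ℂ) * ((-1) ^ (m + 1 - 1) * (-(q : ℂ)) ^ (∑ i ∈ Finset.range (m + 1), i)) := by
    rw [← hsum, Finset.mul_sum]
    refine Finset.sum_congr rfl fun u _ => ?_
    rw [hθ _ (huni u u.2)]
    ring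
  have hθc : IsCharacter H (fun u => (θ : GU (m + 1) F q → ℂ) u) :=
    Characters.Core.isCharacter_comp H.subtype (Characters.Core.isIrr_isCharacter θ.2)
  have hψc : IsCharacter H (fun u => ((ψ u : ℂˣ) : ℂ)) :=
    Characters.Core.isIrr_isCharacter (Cfsg.Agent.H595.Central.isIrr_hom ψ)
  obtain ⟨r, hr⟩ := Characters.Core.classInner_isNat hθc hψc
  have hcH0 : (Nat.card H : ℂ) ≠ 0 := by exact_mod_cast Nat.card_pos.ne'
  have hS' : ∑ u : H, (θ : GU (m + 1) F q → ℂ) u * (((ψ u)⁻¹ : ℂˣ) : ℂ) = (Nat.card H : ℂ) * r := by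
    rw [← hr, Characters.Core.classInner_def, ← mul_assoc, mul_inv_cancel₀ hcH0, one_mul]
    refine Finset.sum_congr rfl fun u _ => ?_
    rw [conj_val]
  have hone : ∑ u : H, (θ : GU (m + 1) F q → ℂ) u * (((ψ u)⁻¹ : ℂˣ) : ℂ) = Nat.card H := by
    have h1 : ∃ δ : ℤ, (δ = 1 ∨ δ = -1) ∧ ((ε : ℤ) : ℂ) * ((-1) ^ (m + 1 - 1) *
        (-(q : ℂ)) ^ (∑ i ∈ Finset.range (m + 1), i)) = (Nat.card H : ℂ) * δ := by
      refine ⟨(ε : ℤ) * (-1) ^ m * (-1) ^ (∑ i ∈ Finset.range (m + 1), i), ?_, ?_⟩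
      · have h2 : ((ε : ℤ) * (-1) ^ m * (-1) ^ (∑ i ∈ Finset.range (m + 1), i)) =
            ((ε * (-1) ^ m * (-1) ^ (∑ i ∈ Finset.range (m + 1), i) : ℤˣ) : ℤ) := by push_cast; rfl
        rw [h2]
        rcases Int.units_eq_one_or (ε * (-1) ^ m * (-1) ^ (∑ i ∈ Finset.range (m + 1), i)) with h3 | h3
        · left; rw [h3]; rfl
        · right; rw [h3]; rfl
      · rw [hcard, neg_pow (q : ℂ)]
        push_cast
        ring
    obtain ⟨δ, hδ, hδ'⟩ := h1
    rw [hS, hδ'] at hS'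
    have h2 : ((δ : ℤ) : ℂ) = ((r : ℤ) : ℂ) := by
      rw [Int.cast_natCast]
      exact mul_left_cancel₀ hcH0 hS'
    have h3 : δ = (r : ℤ) := by exact_mod_cast h2
    rw [hS, hδ']
    rcases hδ with h4 | h4
    · rw [h4, Int.cast_one, mul_one]
    · omega
  have hdeg : (θ : GU (m + 1) F q → ℂ) 1 = ((∏ i ∈ Finset.range m, rr q i : ℕ) : ℂ) := by
    have h1 := hθ 1 (by
      change ((1 : Matrix (Fin (m + 1)) (Fin (m + 1)) F) - 1) ^ (m + 1) = 0
      rw [sub_self, zero_pow (Nat.succ_ne_zero m)])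
    have h2 : kd ((1 : GU (m + 1) F q) : GL (Fin (m + 1)) F) (X - 1) = m + 1 := by
      rw [kd]
      have h3 : aeval (Matrix.toLin' (((1 : GU (m + 1) F q) : GL (Fin (m + 1)) F) :
          Matrix (Fin (m + 1)) (Fin (m + 1)) F)) (X - 1 : F[X]) = 0 := by
        rw [map_sub, aeval_X, map_one]
        change Matrix.toLin' (1 : Matrix (Fin (m + 1)) (Fin (m + 1)) F) - 1 = 0
        rw [Matrix.toLin'_one]
        exact sub_self _
      change Module.finrank F (LinearMap.ker (aeval (Matrix.toLin' (((1 : GU (m + 1) F q) : GL (Fin (m + 1)) F) :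
          Matrix (Fin (m + 1)) (Fin (m + 1)) F)) (X - 1 : F[X]))) = _
      rw [h3, LinearMap.ker_zero, finrank_top, Module.finrank_fin_fun]
    rw [h2, wt_eq hq, ← mul_assoc] at h1
    obtain ⟨d, hd0, hd⟩ := Characters.Core.isIrr_apply_one θ.2
    rw [hd] at h1 ⊢
    have h4 : ∃ δ : ℤ, (δ = 1 ∨ δ = -1) ∧ ((ε : ℤ) : ℂ) * (-1) ^ (∑ i ∈ Finset.range m, i) = δ := by
      refine ⟨(ε : ℤ) * (-1) ^ (∑ i ∈ Finset.range m, i), ?_, by push_cast; rfl⟩
      have h2 : ((ε : ℤ) * (-1) ^ (∑ i ∈ Finset.range m, i)) =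
            ((ε * (-1) ^ (∑ i ∈ Finset.range m, i) : ℤˣ) : ℤ) := by push_cast; rfl
      rw [h2]
      rcases Int.units_eq_one_or (ε * (-1) ^ (∑ i ∈ Finset.range m, i)) with h3 | h3
      · left; rw [h3]; rfl
      · right; rw [h3]; rfl
    obtain ⟨δ, hδ, hδ'⟩ := h4
    rw [hδ'] at h1
    have h5 : (d : ℤ) = δ * ((∏ i ∈ Finset.range m, rr q i : ℕ) : ℤ) := by exact_mod_cast h1
    rcases hδ with h6 | h6
    · rw [h6, one_mul] at h5
      exact_mod_cast h5
    · rw [h6] at h5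
      omega
  obtain ⟨u, hu, hnz⟩ := exists_nz_of_linear' hM hζ θ hf H hHc
    (fun x hx => MonoidHom.mem_ker.2 (hζd x (hdet x hx))) ψ
    (by rw [finsum_eq_sum_of_fintype]; exact hone)
    (by
      rw [Cfsg.Agent.Blocks.Basic.charDegree_of_eq hdeg, card_center hF hk]
      exact fact_card_GU hF hpp hp hpk)
  exact ⟨u, huni u hu, hnz⟩

end Cfsg.Agent.H624.SlU
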