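import Cfsg.Agent.H624.Sl.Cusp
import Cfsg.Agent.H624.SlU.Func

/-!
# T4 for `GL_k(K)` in terms of the values on the unipotent elements
-/

set_option autoImplicit false
set_option linter.unusedSectionVars false

open Cfsg Polynomial
open scoped MatrixGroups

namespace Cfsg.Agent.H624.SlU

open Cfsg.Agent.H644 Cfsg.Agent.Blocks.Local Cfsg.Agent.H648.Dict Cfsg.Agent.H624.Sl
open Cfsg.Agent.SylowL.Lev Cfsg.Agent.SylowL.UT
open Cfsg.Agent.H139.Cusp

universe u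

attribute [local instance] fintypeHom fintypeSub finite_quot

variable {K : Type u} [Field K] [Finite K]

/-- the multiplicity of the root `1` -/
noncomputable def bOne (f : K[X]) : ℂ := (f.rootMultiplicity 1 : ℂ)

theorem bOne_mul (p q : K[X]) (hp : p.Monic) (hq : q.Monic) : bOne (p * q) = bOne p + bOne q := by
  rw [bOne, bOne, bOne, Polynomial.rootMultiplicity_mul (mul_ne_zero hp.ne_zero hq.ne_zero), Nat.cast_add]

theorem bOne_X : bOne (X - 1 : K[X]) = 1 := by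
  have h : (X - 1 : K[X]) = X - C 1 := by rw [map_one]
  rw [bOne, h, Polynomial.rootMultiplicity_X_sub_C_self, Nat.cast_one]

/-- the values of `kap` at the unipotent elements -/
theorem kap_uni {m : ℕ} (x : GL (Fin (m + 1)) K) (hx : Uni x) :
    Cfsg.Agent.H139.Cusp.kap bOne (Matrix.toLin' x.1) ⊤ = wt (Nat.card K : ℂ) (kd x (X - 1)) := by
  have hX : (X - 1 : K[X]) = X - C 1 := by rw [map_one]
  have hdeg : (X - 1 : K[X]).natDegree = 1 := by rw [hX, natDegree_X_sub_C]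
  have h0 : aeval (Matrix.toLin' x.1) ((X - 1 : K[X]) ^ (m + 1)) = 0 := by
    rw [map_pow, map_sub, aeval_X, map_one]
    have h1 : Matrix.toLin' x.1 - 1 = Matrix.toLin' (x.1 - 1) := by
      rw [map_sub, Matrix.toLin'_one]
      rfl
    rw [h1, ← Matrix.toLin'_pow]
    have h2 : (x.1 - 1) ^ (m + 1) = 0 := hx
    rw [h2, map_zero]
  have hpos : kd x (X - 1) ≠ 0 := by
    intro h1
    rw [kd] at h1
    have h2 : LinearMap.ker (aeval (Matrix.toLin' x.1) (X - 1 : K[X])) = ⊥ := Submodule.finrank_eq_zero.1 h1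
    have h3 : ∀ i, LinearMap.ker (aeval (Matrix.toLin' x.1) ((X - 1 : K[X]) ^ i)) = ⊥ := by
      intro i
      induction i with
      | zero =>
        rw [pow_zero, map_one]
        exact LinearMap.ker_id
      | succ i ih =>
        rw [pow_succ, map_mul, Module.End.mul_eq_comp, LinearMap.ker_comp, ih]
        exact h2
    have h4 := h3 (m + 1)
    rw [h0, LinearMap.ker_zero] at h4
    exact top_ne_bot h4
  obtain ⟨k, hk⟩ : ∃ k, kd x (X - 1) = k + 1 := ⟨kd x (X - 1) - 1, by omega⟩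
  rw [kap_formula bOne bOne_mul (f := X - 1) (by rw [hX]; exact monic_X_sub_C 1)
    (by rw [hX]; exact irreducible_X_sub_C 1) (m := m + 1) h0 (k := k)
    (by rw [hdeg, one_mul]; exact hk), bOne_X, one_mul, hdeg, hk, wt, Finset.prod_Ico_eq_prod_range]
  refine Finset.prod_congr (by rw [Nat.add_sub_cancel]) fun i _ => ?_
  rw [one_mul, add_comm 1 i]

/-- T4 in terms of the values on the unipotent elements. -/
theorem exists_unipotent_nz_val {k : ℕ} {p : ℕ} {M : Ideal AlgInt} [M.IsPrime] (hM : IsPModular p M) (hk : 0 < k)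
    (hp : p ∣ Nat.card K - 1) (hpk : ¬ p ∣ k) {ζ : GL (Fin k) K →* ℂˣ} (hζ : PPrime p ζ)
    (hζd : ∀ g : GL (Fin k) K, Matrix.GeneralLinearGroup.det g = 1 → ζ g = 1)
    (θ : IrrCharacter (GL (Fin k) K))
    (hθ : ∃ ε : ℤˣ, ∀ u : GL (Fin k) K, Uni u → (θ : GL (Fin k) K → ℂ) u =
      ((ε : ℤ) : ℂ) * wt (Nat.card K : ℂ) (kd u (X - 1)))
    (hf : FixIrr ζ (θ : GL (Fin k) K → ℂ)) :
    ∃ x : GL (Fin k) K, Uni x ∧ Nz M ζ (blockOf M (θ : GL (Fin k) K → ℂ)) x := by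
  classical
  have := Fintype.ofFinite K
  obtain ⟨m, rfl⟩ : ∃ m, k = m + 1 := ⟨k - 1, by omega⟩
  obtain ⟨ε, hθ⟩ := hθ
  have hpp := hM.1
  have hqc := coprime_card hpp hp
  obtain ⟨ψ, hψ⟩ : ∃ ψ : AddChar K ℂ, ψ ≠ 1 := by
    obtain ⟨ψ, hψ⟩ := (AddChar.exists_apply_ne_zero (a := (1 : K))).2 one_ne_zero
    refine ⟨ψ, fun h => hψ ?_⟩
    rw [h, AddChar.one_apply]
  have hfin : Fintype (UT (m + 1) K) := Fintype.ofFinite _
  have hcH0 : (Nat.card (UT (m + 1) K) : ℂ) ≠ 0 := by exact_mod_cast Nat.card_pos.ne'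
  -- the sum
  have hS : ∑ u : UT (m + 1) K, (θ : GL (Fin (m + 1)) K → ℂ) (u : GL (Fin (m + 1)) K) *
      (((psiU m ψ u)⁻¹ : ℂˣ) : ℂ) = ((ε : ℤ) : ℂ) * ((-1) ^ m * (Nat.card (UT (m + 1) K) : ℂ)) := by
    rw [card_UT']
    have h1 := Cfsg.Agent.H626.Whit.sum_ut_kap bOne bOne_mul m ψ hψ (fun _ => -1)
      (fun _ => neg_ne_zero.2 one_ne_zero)
    have h0 : ∑ x ∈ Finset.univ.filter (fun x : Matrix (Fin (m + 1)) (Fin (m + 1)) K =>
        Cfsg.Agent.H505.S4536.UT x), Cfsg.Agent.H139.Cusp.kap bOne (Matrix.toLin' x) ⊤ *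
          ψ (∑ i : Fin m, (-1) * x i.castSucc i.succ) =
        ∑ u : UT (m + 1) K, Cfsg.Agent.H139.Cusp.kap bOne (Matrix.toLin' (u : GL (Fin (m + 1)) K).1) ⊤ *
          ψ (∑ i : Fin m, (-1) * (u : GL (Fin (m + 1)) K).1 i.castSucc i.succ) := by
        rw [sum_UT (fun x => Cfsg.Agent.H139.Cusp.kap bOne (Matrix.toLin' x) ⊤ *
          ψ (∑ i : Fin m, (-1) * x i.castSucc i.succ))]
        refine Finset.sum_congr ?_ fun _ _ => rfl
        ext x
        rw [Finset.mem_filter, Finset.mem_filter]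
        rfl
    rw [h0, bOne_X, mul_one, ← Nat.card_eq_fintype_card] at h1
    rw [Nat.cast_pow, ← h1, Finset.mul_sum]
    refine Finset.sum_congr rfl fun u _ => ?_
    rw [hθ _ (uni_of_mem_UT u.2), psiU_inv_apply, kap_uni _ (uni_of_mem_UT u.2), mul_assoc]
    congr 3
    rw [supd, ← Finset.sum_neg_distrib]
    refine Finset.sum_congr rfl fun i _ => ?_
    rw [N, Matrix.sub_apply, Matrix.one_apply_ne (Fin.castSucc_lt_succ).ne, sub_zero, neg_one_mul]
  have hθc : IsCharacter (UT (m + 1) K) (fun u => (θ : GL (Fin (m + 1)) K → ℂ) u) :=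
    Characters.Core.isCharacter_comp (UT (m + 1) K).subtype (Characters.Core.isIrr_isCharacter θ.2)
  have hψc : IsCharacter (UT (m + 1) K) (fun u => ((psiU m ψ u : ℂˣ) : ℂ)) :=
    Characters.Core.isIrr_isCharacter (Cfsg.Agent.H595.Central.isIrr_hom (psiU m ψ))
  obtain ⟨r, hr⟩ := Characters.Core.classInner_isNat hθc hψc
  have hS' : ∑ u : UT (m + 1) K, (θ : GL (Fin (m + 1)) K → ℂ) u * (((psiU m ψ u)⁻¹ : ℂˣ) : ℂ) =
      (Nat.card (UT (m + 1) K) : ℂ) * r := by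
    rw [← hr, Characters.Core.classInner_def, ← mul_assoc, mul_inv_cancel₀ hcH0, one_mul]
    refine Finset.sum_congr rfl fun u _ => ?_
    rw [conj_val]
  obtain ⟨δ, hδ⟩ : ∃ δ : ℤˣ, δ = ε * (-1) ^ m := ⟨_, rfl⟩
  have hδ1 : ((ε : ℤ) : ℂ) * ((-1) ^ m * (Nat.card (UT (m + 1) K) : ℂ)) =
      (Nat.card (UT (m + 1) K) : ℂ) * ((δ : ℤ) : ℂ) := by
    rw [hδ]
    push_cast
    ring
  have hδ2 : (δ : ℤ) = 1 := by
    rw [hS, hδ1] at hS'
    have h2 : ((δ : ℤ) : ℂ) = ((r : ℤ) : ℂ) := by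
      rw [Int.cast_natCast]
      exact mul_left_cancel₀ hcH0 hS'
    have h3 : (δ : ℤ) = (r : ℤ) := by exact_mod_cast h2
    rcases Int.units_eq_one_or δ with h4 | h4
    · rw [h4]; rfl
    · rw [h4] at h3
      have : (-1 : ℤ) = r := h3
      omega
  have hε : ((ε : ℤ) : ℂ) = (-1) ^ m := by
    have h1 : ε = (-1) ^ m := by
      have h2 : δ = 1 := Units.ext hδ2
      rw [hδ] at h2
      have h4 : ((-1 : ℤˣ)) ^ m * (-1) ^ m = 1 := by rw [← mul_pow]; simp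
      calc ε = ε * (((-1 : ℤˣ)) ^ m * (-1) ^ m) := by rw [h4, mul_one]
        _ = (ε * (-1) ^ m) * (-1) ^ m := by rw [mul_assoc]
        _ = (-1) ^ m := by rw [h2, one_mul]
    rw [h1]
    push_cast
    rfl
  have hθ1 : (θ : GL (Fin (m + 1)) K → ℂ) 1 = ((∏ i ∈ Finset.range m, (Nat.card K ^ (i + 1) - 1) : ℕ) : ℂ) := by
    have hu1 : Uni (1 : GL (Fin (m + 1)) K) := by
      change ((1 : Matrix (Fin (m + 1)) (Fin (m + 1)) K) - 1) ^ (m + 1) = 0
      rw [sub_self, zero_pow (Nat.succ_ne_zero m)]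
    rw [← cusp_one bOne bOne_mul bOne_X, hθ 1 hu1, hε]
    congr 1
    exact (kap_uni 1 hu1).symm
  obtain ⟨u, hu, hnz⟩ := exists_nz_of_linear' hM hζ θ hf (UT (m + 1) K)
    (by rw [card_UT']; exact Nat.Coprime.pow_left _ hqc)
    (fun x hx => MonoidHom.mem_ker.2 (hζd x (det_of_mem_UT hx)))
    (psiU m ψ) (by rw [finsum_eq_sum_of_fintype, hS, hδ1, hδ2, Int.cast_one, mul_one])
    (by
      rw [Cfsg.Agent.Blocks.Basic.charDegree_of_eq hθ1, card_center_GL]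
      exact fact_card_GL hpp hp hpk)
  exact ⟨u, uni_of_mem_UT hu, hnz⟩

end Cfsg.Agent.H624.SlU
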