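import Cfsg.Agent.H624.SlU.Ind
import Cfsg.Agent.H624.SlU.Func
import Cfsg.Agent.H383.Pi.GoodSU
import Cfsg.Agent.H681.PU.Card
import Cfsg.Agent.H624.Sl.Defs
import Mathlib.LinearAlgebra.Eigenspace.Zero

/-!
# S4537 (T4-U): the unipotent subgroup of `GU_n(q)` and its linear character
-/

set_option autoImplicit false
set_option linter.unusedSectionVars false

open Cfsg Polynomial
open scoped MatrixGroups Matrix

namespace Cfsg.Agent.H624.SlU

open Module Cfsg.Agent.H951 Cfsg.Agent.H624.Sl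

universe u

variable {F : Type u} [Field F] [Finite F] {q : ℕ}

/-- transport of automorphisms -/
def conjE {V W : Type u} [AddCommGroup V] [Module F V] [AddCommGroup W] [Module F W] (e : W ≃ₗ[F] V) :
    (V ≃ₗ[F] V) →* (W ≃ₗ[F] W) where
  toFun g := (e.trans g).trans e.symm
  map_one' := by
    ext v
    exact e.symm_apply_apply v
  map_mul' g h := by
    ext v
    change e.symm (g (h (e v))) = e.symm (g (e (e.symm (h (e v)))))
    rw [e.apply_symm_apply]

theorem conjE_apply {V W : Type u} [AddCommGroup V] [Module F V] [AddCommGroup W] [Module F W] (e : W ≃ₗ[F] V)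
    (g : V ≃ₗ[F] V) (w : W) : conjE e g w = e.symm (g (e w)) := rfl

theorem uni_of_nil {n : ℕ} {x : GL (Fin n) F} (h : IsNilpotent (Matrix.toLin' (x.1 - 1))) : Uni x := by
  have h1 := (LinearMap.isNilpotent_iff_charpoly _).1 h
  have h2 := LinearMap.aeval_self_charpoly (Matrix.toLin' (x.1 - 1))
  rw [h1, Module.finrank_fin_fun, map_pow, aeval_X, ← Matrix.toLin'_pow] at h2
  rw [Uni]
  apply Matrix.toLin'.injective
  rw [h2, map_zero]

theorem exists_whittaker (hF : Nat.card F = q ^ 2) {n : ℕ} (hn : 0 < n) :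
    ∃ (H : Subgroup (GU n F q)) (ψ : H →* ℂˣ), Nat.card H = q ^ (∑ i ∈ Finset.range n, i) ∧
      (∀ u ∈ H, Uni (u : GL (Fin n) F)) ∧
      ∑ᶠ u : H, (((ψ u)⁻¹ : ℂˣ) : ℂ) * wt (-(q : ℂ)) (kd ((u : GU n F q) : GL (Fin n) F) (X - 1)) =
        (-1) ^ (n - 1) * (-(q : ℂ)) ^ (∑ i ∈ Finset.range n, i) := by
  classical
  have := Fintype.ofFinite F
  have hF' : Fintype.card F = q ^ 2 := by rw [← Nat.card_eq_fintype_card]; exact hF
  have hq := Cfsg.Agent.H383.Pi.two_le_q hF
  obtain ⟨σ, hσ⟩ := Cfsg.Agent.H383.Pi.exists_sigma hF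
  have hinv : ∀ a, σ (σ a) = a := fun a => by
    rw [hσ, hσ]
    exact Cfsg.Agent.LieClassical.HermBasic.pow_q_pow_q hF' a
  have hcnt : ∀ s : F, (σ : F →+* F) s = s → Nat.card {c : F // c + (σ : F →+* F) c = s} = q := by
    intro s hs
    have h1 : s ^ q = s := by rw [← hσ]; exact hs
    rw [← Cfsg.Agent.H681.PU.card_trace_eq hF' h1]
    refine Nat.card_congr (Equiv.subtypeEquivRight fun c => ?_)
    rw [← hσ c]
    rfl
  obtain ⟨V, _, _, _, h, U, _, _, D, ψ, e₀, hr, hnd, hinj, hnil, hfix, he, hcard, hsum⟩ :=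
    hasW (F := F) (σ := (σ : F →+* F)) hF hq hinv hcnt n hn
  obtain ⟨e, he⟩ := Cfsg.Agent.H383.Pi.exists_coordU (h := h) hF D.frm.add_left D.frm.smul_left
    (fun u v => by rw [D.frm.herm u v, one_mul, ← hσ]; rfl) hnd hr
  let j₀ : U →* GL (Fin n) F := (glE F n).symm.toMonoidHom.comp ((conjE e).comp D.ρ)
  have hj : ∀ u v, (j₀ u).1.mulVec v = e.symm (D.ρ u (e v)) := by
    intro u v
    rw [← glE_apply]
    have h1 : glE F n (j₀ u) = conjE e (D.ρ u) := (glE F n).apply_symm_apply _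
    rw [h1, conjE_apply]
  have hmem : ∀ u, j₀ u ∈ GU n F q := by
    intro u v w
    change hermForm n F q ((j₀ u).1.mulVec v) ((j₀ u).1.mulVec w) = _
    rw [hj, hj, ← he, ← he, e.apply_symm_apply, e.apply_symm_apply, D.iso]
  let j : U →* GU n F q := j₀.codRestrict _ hmem
  have hji : Function.Injective j := by
    intro u v huv
    apply hinj
    have h1 : j₀ u = j₀ v := congrArg Subtype.val huv
    ext w
    have h2 := hj u (e.symm w)
    rw [h1, hj, e.apply_symm_apply] at h2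
    exact (e.symm.injective h2).symm
  have hsub : ∀ u v, (Matrix.toLin' ((j₀ u).1 - 1)) v = e.symm (((D.ρ u : V →ₗ[F] V) - 1) (e v)) := by
    intro u v
    rw [Matrix.toLin'_apply, Matrix.sub_mulVec, Matrix.one_mulVec, hj, LinearMap.sub_apply,
      Module.End.one_apply, map_sub, e.symm_apply_apply]
    rfl
  have hkd : ∀ u, kd (j₀ u) (X - 1) = kap (D.ρ u) := by
    intro u
    rw [kd, kap, map_sub, aeval_X, map_one]
    have h1 : Matrix.toLin' (j₀ u).1 - 1 = Matrix.toLin' ((j₀ u).1 - 1) := by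
      rw [map_sub, Matrix.toLin'_one]
      rfl
    have h2 : Submodule.map (e : (Fin n → F) →ₗ[F] V) (LinearMap.ker (Matrix.toLin' ((j₀ u).1 - 1))) =
        LinearMap.ker ((D.ρ u : V →ₗ[F] V) - 1) := ?_
    · rw [h1, (e.submoduleMap (LinearMap.ker (Matrix.toLin' ((j₀ u).1 - 1)))).finrank_eq, h2]
    ext v
    rw [Submodule.mem_map]
    constructor
    · rintro ⟨w, hw, rfl⟩
      rw [LinearMap.mem_ker] at hw ⊢
      rw [hsub] at hw
      exact (LinearEquiv.map_eq_zero_iff e.symm).1 hw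
    · intro hv
      refine ⟨e.symm v, ?_, e.apply_symm_apply v⟩
      rw [LinearMap.mem_ker] at hv ⊢
      rw [hsub, e.apply_symm_apply, hv, map_zero]
  have huni : ∀ u, Uni (j₀ u) := by
    intro u
    apply uni_of_nil
    obtain ⟨k, hk⟩ := hnil u
    refine ⟨k, LinearMap.ext fun v => ?_⟩
    have h1 : ∀ (i : ℕ) v, (Matrix.toLin' ((j₀ u).1 - 1) ^ i) v =
        e.symm ((((D.ρ u : V →ₗ[F] V) - 1) ^ i) (e v)) := by
      intro i
      induction i with
      | zero => intro v; exact (e.symm_apply_apply v).symm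
      | succ i ih =>
        intro v
        rw [pow_succ, Module.End.mul_apply, ih, hsub, e.apply_symm_apply, pow_succ, Module.End.mul_apply]
    rw [h1, hk, LinearMap.zero_apply, map_zero, LinearMap.zero_apply]
  let E := MonoidHom.ofInjective hji
  refine ⟨j.range, ψ.comp E.symm.toMonoidHom, ?_, ?_, ?_⟩
  · rw [← hcard]
    exact (Nat.card_congr E.toEquiv).symm
  · rintro _ ⟨u, rfl⟩
    exact huni u
  · have h1 := sum_wt (fun u : U => (((ψ u)⁻¹ : ℂˣ) : ℂ)) (fun u => kap (D.ρ u)) (-(q : ℂ)) hn hsum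
    rw [← h1]
    refine (finsum_eq_of_bijective (f := fun u : U => (((ψ u)⁻¹ : ℂˣ) : ℂ) * wt (-(q : ℂ)) (kap (D.ρ u)))
      E E.bijective fun u => ?_).symm
    have h2 : (ψ.comp E.symm.toMonoidHom) (E u) = ψ u := by
      change ψ (E.symm (E u)) = _
      rw [E.symm_apply_apply]
    rw [h2]
    congr 2
    exact (hkd u).symm

end Cfsg.Agent.H624.SlU
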