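import Cfsg.Agent.H624.SlU.LemTow
import Cfsg.Agent.H666.GU.Asm

/-!
# S4537: the nonvanishing hypothesis `hNz` of `H666.GU.su_asm` from the geometric data
-/

set_option autoImplicit false
set_option linter.unusedSectionVars false

open Cfsg Polynomial
open scoped MatrixGroups

namespace Cfsg.Agent.H624.SlU

open Cfsg.Agent.H577.GLB Cfsg.Agent.H577.GLB.Std Cfsg.Agent.H614 Cfsg.Agent.H112.GLB
open Cfsg.Agent.H615.GU Cfsg.Agent.H421.GU Cfsg.Agent.H666.Clif Cfsg.Agent.H614.GU Cfsg.Agent.H623.GU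
open Cfsg.Agent.H608.BlockRank Cfsg.Agent.Blocks.Local Cfsg.Agent.H614.GLn Cfsg.Agent.H666.GU
open Cfsg.Agent.H624.Sl

universe u

variable {F : Type u} [Field F] [Fintype F] {K : Type u} [Field K] [Algebra F K] {θ : K →*₀ ℂ} {q N M p : ℕ}
  [NeZero M]

theorem ln_eq (C : Ctx F θ N M) (hF : Fintype.card F = q ^ 2)
    (t : Tow θ (-(q : ℤ)) M N p (fun n => Cfsg.GU n F q)) (ht : ∀ n (hn : n ≤ N), IsTypU q n (t.T n hn))
    {n : ℕ} (hn : n ≤ N) (hn0 : 0 < n) (a : ZMod M) :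
    (TLin C hF t ht hn hn0).ln a = dchU n q (alF F θ (-(q : ℤ)) M a) := by
  refine MonoidHom.ext fun g => Units.ext ?_
  have h1 := guLin_ln (natCard_eq hF) (ctxU C hF) hn hn0 (splU C hn) (ht n hn) (t.hyp n hn) a g
  have h2 : ((dchU n q (alF F θ (-(q : ℤ)) M a) g : ℂˣ) : ℂ) =
      ((alF F θ (-(q : ℤ)) M a (Matrix.GeneralLinearGroup.det (g : GL (Fin n) F)) : ℂˣ) : ℂ) := rfl
  rw [h2, alF_coe]
  exact h1

theorem tw_all [Finite K] (C : Ctx F θ N M) (hF : Fintype.card F = q ^ 2)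
    (t : Tow θ (-(q : ℤ)) M N p (fun n => Cfsg.GU n F q)) (ht : ∀ n (hn : n ≤ N), IsTypU q n (t.T n hn))
    {n : ℕ} (hn : n ≤ N) {a : ZMod M} (ha : TorZ (-(q : ℤ)) M 1 a) (x : RS M) (hx : x ∈ Hom (-(q : ℤ)) M n) :
    (t.R n hn).om (twist (-(q : ℤ)) M a x) =
      (fun g => ((dchU n q (alF F θ (-(q : ℤ)) M a) g : ℂˣ) : ℂ)) * (t.R n hn).om x := by
  funext g
  have h2 : ((dchU n q (alF F θ (-(q : ℤ)) M a) g : ℂˣ) : ℂ) =
      ((alF F θ (-(q : ℤ)) M a (Matrix.GeneralLinearGroup.det (g : GL (Fin n) F)) : ℂˣ) : ℂ) := rfl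
  rw [Pi.mul_apply, h2, alF_coe, Tow.R_om, Tow.R_om,
    evR_twist (ctxU C hF).card (ctxU C hF).unit (fun v x => H531.GU.evR_X_mul θ _ M H521.GU.i2s v x) ha
      (hom_le_genR n x hx), H697.GW.linT_eq_GU (splU C hn) (ht n hn) θ M a g]
  rfl

theorem pprime_dchU (C : Ctx F θ N M) (hF : Fintype.card F = q ^ 2)
    (t : Tow θ (-(q : ℤ)) M N p (fun n => Cfsg.GU n F q)) (ht : ∀ n (hn : n ≤ N), IsTypU q n (t.T n hn))
    (hp : p.Prime) {a : ZMod M} (ha : TorZ (-(q : ℤ)) M 1 a) (hap : PReg M p a) (n : ℕ) (hn : n ≤ N) :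
    PPrime p (dchU n q (alF F θ (-(q : ℤ)) M a)) := by
  rcases Nat.eq_zero_or_pos n with h0 | h0
  · subst h0
    refine ⟨1, one_pos, fun h => hp.one_lt.ne' (Nat.dvd_one.1 h), fun g => ?_⟩
    have h1 : (g : GL (Fin 0) F) = 1 := Subsingleton.elim _ _
    have h2 : g = 1 := Subtype.ext h1
    rw [h2, map_one, one_pow]
  · have h1 := (TLin C hF t ht hn h0).ord a ha
    rw [ln_eq] at h1
    refine ⟨addOrderOf a, addOrderOf_pos a, fun hd => ?_, fun g => ?_⟩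
    · exact hp.one_lt.ne' (Nat.dvd_one.1 (hap ▸ Nat.dvd_gcd hd dvd_rfl))
    · rw [← h1]
      have h2 := pow_orderOf_eq_one (dchU n q (alF F θ (-(q : ℤ)) M a))
      exact DFunLike.congr_fun h2 g

/-- the nonvanishing for `GU_N(q)` -/
theorem hNz_of (C : Ctx F θ N M) (hF : Fintype.card F = q ^ 2) (hpF : p ≠ ringChar F) (hN0 : 0 < N)
    (t : Tow θ (-(q : ℤ)) M N p (fun n => Cfsg.GU n F q)) (ht : ∀ n (hn : n ≤ N), IsTypU q n (t.T n hn))
    {𝔐 : Ideal AlgInt} (h𝔐 : IsPModular p 𝔐) [𝔐.IsPrime]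
    (hgeo : ∀ a : ZMod M, TorZ (-(q : ℤ)) M 1 a → PReg M p a →
      GeoAll 𝔐 t (fun n => dchU n q (alF F θ (-(q : ℤ)) M a)) a
        (fun i => ∀ z : Fˣ, alF F θ (-(q : ℤ)) M a (z * (z ^ q)⁻¹) ^ i = 1)) :
    ∀ {B : Set (IrrCharacter (Cfsg.GU N F q))}, IsPBlock 𝔐 B → ∀ {χ : IrrCharacter (Cfsg.GU N F q)},
      χ ∈ B → ∀ {l : LabZ (-(q : ℤ)) M N N}, (t.R N (le_refl N)).IsLb χ l → POnly M p l.t →
      ∀ a : ZMod M, SF (-(q : ℤ)) M p l a → ∃ x : Cfsg.GU N F q,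
        H624.Sl.Nz 𝔐 ((TLin C hF t ht (le_refl N) hN0).ln a) B x := by
  intro B hB χ hχ l hl hl' a ha
  have := C.finK
  have hp : p.Prime := h𝔐.1
  have hta : TorZ (-(q : ℤ)) M 1 a := ha.1.1
  have hpa : PReg M p a := ha.1.2.1
  rw [ln_eq]
  refine lemmaA_tow (t := t) (ctxU C hF).unit (isUnit_Q (natCard_eq hF) hp hpF) h𝔐
    (fun n => dchU n q (alF F θ (-(q : ℤ)) M a)) (fun n hn => pprime_dchU C hF t ht hp hta hpa n hn) a
    (fun n hn x hx => tw_all C hF t ht hn hta x hx)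
    (fun i => ∀ z : Fˣ, alF F θ (-(q : ℤ)) M a (z * (z ^ q)⁻¹) ^ i = 1) ?_ ?_ (hgeo a hta hpa) (le_refl N)
    (le_refl N) hB hχ hl hl' ha
  · intro n hn g hg
    refine H166.GUC.centralizer_le (K := K) hF g
      (splU C hn _ (Matrix.charpoly_monic _) (by rw [Matrix.charpoly_natDegree_eq_dim, Fintype.card_fin]))
      (alF F θ (-(q : ℤ)) M a) fun y i hi => hg y i ?_
    rw [ht n hn g y]
    exact hi
  · intro n hn g hg y i hi z
    rw [ht n hn g y] at hi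
    exact H166.GUC.pow_eq_one hF g (alF F θ (-(q : ℤ)) M a) hg y i hi z

end Cfsg.Agent.H624.SlU
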