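import Cfsg.Agent.H951.Form

/-!
# S4537 (T4-U): the maximal unipotent subgroups of the unitary groups by induction

`W = F × V × F` with the form `a σ b' + h v v' + b σ a'`; from a group `U` of isometries of `V` we get
the group `Heis D` of isometries of `W` fixing `(1, 0, 0)` and inducing elements of `U` on `V`.
-/

set_option autoImplicit false
set_option linter.unusedSectionVars false

namespace Cfsg.Agent.H624.SlU

open Module Cfsg.Agent.H951

universe u

variable {F V : Type u} [Field F] [AddCommGroup V] [Module F V] {σ : F →+* F} {h : V → V → F}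
  {U : Type u} [Group U]

/-- a group of isometries -/
structure Dat (σ : F →+* F) (h : V → V → F) (U : Type u) [Group U] where
  frm : Frm σ 1 h
  ρ : U →* (V ≃ₗ[F] V)
  iso : ∀ u v w, h (ρ u v) (ρ u w) = h v w

/-- the form on `F × V × F` -/
def hW (σ : F →+* F) (h : V → V → F) (y z : F × V × F) : F :=
  y.1 * σ z.2.2 + h y.2.1 z.2.1 + y.2.2 * σ z.1

theorem frmW (hB : Frm σ 1 h) : Frm σ 1 (hW σ h) where
  add_left u v w := by
    simp only [hW, Prod.fst_add, Prod.snd_add, hB.add_left]
    ring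
  smul_left a u v := by
    simp only [hW, Prod.smul_fst, Prod.smul_snd, hB.smul_left, smul_eq_mul]
    ring
  herm u v := by
    simp only [hW, map_add, map_mul, hB.sigma_sq]
    rw [hB.herm u.2.1 v.2.1]
    ring
  sigma_sq := hB.sigma_sq
  eps_ne := one_ne_zero

theorem ndW (hB : Frm σ 1 h) (hnd : ∀ u, (∀ v, h u v = 0) → u = 0) (u : F × V × F)
    (hu : ∀ v, hW σ h u v = 0) : u = 0 := by
  obtain ⟨a, w, b⟩ := u
  have h1 := hu (0, 0, 1)
  have h2 := hu (1, 0, 0)
  simp only [hW, map_one, map_zero, hB.zero_right, mul_one, mul_zero, add_zero, zero_add] at h1 h2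
  have h3 : w = 0 := by
    apply hnd
    intro v
    have := hu (0, v, 0)
    simpa [hW] using this
  rw [h1, h2, h3]
  rfl

theorem herm' (hB : Frm σ 1 h) (u v : V) : σ (h u v) = h v u := by
  rw [hB.herm u v, one_mul]

/-- the group acting on `F × V × F` -/
def Heis (D : Dat σ h U) : Type u := {t : V × F × U // t.2.1 + σ t.2.1 + h t.1 t.1 = 0}

namespace Heis

variable (D : Dat σ h U)

variable {D}

/-- the vector -/
def x (t : Heis D) : V := t.1.1
/-- the scalar -/
def c (t : Heis D) : F := t.1.2.1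
/-- the element of `U` -/
def u (t : Heis D) : U := t.1.2.2

theorem eq (t : Heis D) : t.c + σ t.c + h t.x t.x = 0 := t.2

theorem ext' {s t : Heis D} (h1 : s.x = t.x) (h2 : s.c = t.c) (h3 : s.u = t.u) : s = t :=
  Subtype.ext (Prod.ext h1 (Prod.ext h2 h3))

/-- constructor -/
def mk (x : V) (c : F) (u : U) (he : c + σ c + h x x = 0) : Heis D := ⟨(x, c, u), he⟩

instance : One (Heis D) := ⟨mk 0 0 1 (by rw [map_zero, D.frm.zero_left, add_zero, add_zero])⟩

instance : Mul (Heis D) := ⟨fun s t => mk (s.x + D.ρ s.u t.x) (s.c + t.c - h (D.ρ s.u t.x) s.x) (s.u * t.u) (by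
  have h1 := s.eq
  have h2 := t.eq
  rw [map_sub, map_add, herm' D.frm, D.frm.add_left, D.frm.add_right, D.frm.add_right, D.iso]
  linear_combination h1 + h2)⟩

instance : Inv (Heis D) := ⟨fun t => mk (- D.ρ t.u⁻¹ t.x) (σ t.c) t.u⁻¹ (by
  have h1 := t.eq
  rw [D.frm.sigma_sq, D.frm.neg_left, D.frm.neg_right, D.iso]
  linear_combination h1)⟩

@[simp] theorem one_x : (1 : Heis D).x = 0 := rfl
@[simp] theorem one_c : (1 : Heis D).c = 0 := rfl
@[simp] theorem one_u : (1 : Heis D).u = 1 := rfl
@[simp] theorem mul_x (s t : Heis D) : (s * t).x = s.x + D.ρ s.u t.x := rfl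
@[simp] theorem mul_c (s t : Heis D) : (s * t).c = s.c + t.c - h (D.ρ s.u t.x) s.x := rfl
@[simp] theorem mul_u (s t : Heis D) : (s * t).u = s.u * t.u := rfl
@[simp] theorem inv_x (t : Heis D) : (t⁻¹).x = - D.ρ t.u⁻¹ t.x := rfl
@[simp] theorem inv_c (t : Heis D) : (t⁻¹).c = σ t.c := rfl
@[simp] theorem inv_u (t : Heis D) : (t⁻¹).u = t.u⁻¹ := rfl

instance : Group (Heis D) := Group.ofLeftAxioms
  (by
    intro s t r
    apply ext'
    · simp only [mul_x, mul_u, map_mul, map_add, LinearEquiv.mul_apply, add_assoc]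
    · simp only [mul_x, mul_u, mul_c, map_mul, map_add, LinearEquiv.mul_apply, D.frm.add_left,
        D.frm.add_right, D.iso]
      ring
    · simp only [mul_u, mul_assoc])
  (by
    intro t
    apply ext'
    · rw [mul_x, one_x, one_u, map_one, zero_add]
      rfl
    · rw [mul_c, one_x, one_c, D.frm.zero_right, zero_add, sub_zero]
    · rw [mul_u, one_u, one_mul])
  (by
    intro t
    apply ext'
    · rw [mul_x, inv_x, inv_u, one_x, neg_add_cancel]
    · rw [mul_c, inv_x, inv_c, inv_u, one_c, D.frm.neg_right, D.iso, sub_neg_eq_add, add_comm (σ t.c)]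
      exact t.eq
    · rw [mul_u, inv_u, inv_mul_cancel, one_u])

/-- the action -/
def lin (t : Heis D) : (F × V × F) →ₗ[F] (F × V × F) where
  toFun y := (y.1 - h (D.ρ t.u y.2.1) t.x + y.2.2 * t.c, D.ρ t.u y.2.1 + y.2.2 • t.x, y.2.2)
  map_add' y z := by
    simp only [Prod.fst_add, Prod.snd_add, map_add, D.frm.add_left, add_smul]
    refine Prod.ext ?_ (Prod.ext ?_ rfl)
    · simp only [Prod.fst_add]
      ring
    · simp only [Prod.fst_add, Prod.snd_add]
      abel
  map_smul' a y := by
    simp only [Prod.smul_fst, Prod.smul_snd, map_smul, D.frm.smul_left, smul_eq_mul, RingHom.id_apply, mul_smul]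
    refine Prod.ext ?_ (Prod.ext ?_ rfl)
    · simp only [Prod.smul_fst, smul_eq_mul]
      ring
    · simp only [Prod.smul_fst, Prod.smul_snd, smul_add]

theorem lin_apply (t : Heis D) (y : F × V × F) :
    t.lin y = (y.1 - h (D.ρ t.u y.2.1) t.x + y.2.2 * t.c, D.ρ t.u y.2.1 + y.2.2 • t.x, y.2.2) := rfl

theorem lin_one : (1 : Heis D).lin = LinearMap.id := by
  refine LinearMap.ext fun y => ?_
  rw [lin_apply, one_x, one_c, one_u, map_one, D.frm.zero_right, sub_zero, mul_zero, add_zero, smul_zero,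
    add_zero]
  rfl

theorem lin_mul (s t : Heis D) : (s * t).lin = s.lin ∘ₗ t.lin := by
  refine LinearMap.ext fun y => ?_
  rw [LinearMap.comp_apply, lin_apply, lin_apply, lin_apply]
  simp only [mul_x, mul_c, mul_u, map_mul, map_add, LinearEquiv.mul_apply, D.frm.add_left,
        D.frm.add_right, D.iso, map_smul, D.frm.smul_left, smul_add]
  refine Prod.ext ?_ (Prod.ext ?_ rfl)
  · simp only
    ring
  · simp only
    abel

/-- the action on `F × V × F` -/
def rho (D : Dat σ h U) : Heis D →* ((F × V × F) ≃ₗ[F] (F × V × F)) where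
  toFun t := LinearEquiv.ofLinear t.lin (t⁻¹).lin (by rw [← lin_mul, mul_inv_cancel, lin_one])
    (by rw [← lin_mul, inv_mul_cancel, lin_one])
  map_one' := LinearEquiv.toLinearMap_injective lin_one
  map_mul' s t := LinearEquiv.toLinearMap_injective (lin_mul s t)

theorem rho_apply (t : Heis D) (y : F × V × F) : rho D t y =
    (y.1 - h (D.ρ t.u y.2.1) t.x + y.2.2 * t.c, D.ρ t.u y.2.1 + y.2.2 • t.x, y.2.2) := rfl

theorem rho_iso (t : Heis D) (y z : F × V × F) : hW σ h (rho D t y) (rho D t z) = hW σ h y z := by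
  rw [rho_apply, rho_apply, hW, hW]
  simp only [D.frm.add_left, D.frm.add_right, D.frm.smul_left, D.frm.smul_right, D.iso, map_add, map_sub,
    map_mul, herm' D.frm]
  linear_combination (y.2.2 * σ z.2.2) * t.eq

/-- the group of isometries of `F × V × F` -/
def dat (D : Dat σ h U) : Dat σ (hW σ h) (Heis D) := ⟨frmW D.frm, rho D, rho_iso⟩

theorem rho_fix (t : Heis D) : rho D t (1, 0, 0) = (1, 0, 0) := by
  rw [rho_apply]
  simp only [map_zero, D.frm.zero_left, sub_zero, zero_mul, add_zero, zero_smul]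

theorem rho_injective (hD : Function.Injective D.ρ) : Function.Injective (rho D) := by
  intro s t hst
  have hx : s.x = t.x := by
    have h1 := congrArg (fun g : (F × V × F) ≃ₗ[F] (F × V × F) => (g (0, 0, 1)).2.1) hst
    simpa [rho_apply] using h1
  apply ext' hx
  · have h1 := congrArg (fun g : (F × V × F) ≃ₗ[F] (F × V × F) => (g (0, 0, 1)).1) hst
    simpa [rho_apply, D.frm.zero_left] using h1
  · apply hD
    ext v
    have h1 := congrArg (fun g : (F × V × F) ≃ₗ[F] (F × V × F) => (g (0, v, 0)).2.1) hst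
    simpa [rho_apply] using h1

/-- unipotent elements -/
theorem rho_nil (t : Heis D) (ht : IsNilpotent ((D.ρ t.u : V →ₗ[F] V) - 1)) :
    IsNilpotent ((rho D t : (F × V × F) →ₗ[F] (F × V × F)) - 1) := by
  obtain ⟨k, hk⟩ := ht
  set A := (rho D t : (F × V × F) →ₗ[F] (F × V × F)) - 1 with hA
  have h1 : ∀ y : F × V × F, A y = (- h (D.ρ t.u y.2.1) t.x + y.2.2 * t.c, ((D.ρ t.u : V →ₗ[F] V) - 1) y.2.1 +
      y.2.2 • t.x, 0) := by
    intro y
    rw [hA, LinearMap.sub_apply, Module.End.one_apply, LinearMap.sub_apply, Module.End.one_apply]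
    change rho D t y - y = _
    rw [rho_apply]
    refine Prod.ext ?_ (Prod.ext ?_ ?_)
    · simp only [Prod.fst_sub]
      ring
    · simp only [Prod.fst_sub, Prod.snd_sub, LinearEquiv.coe_coe]
      abel
    · simp only [Prod.snd_sub, sub_self]
  have h2 : ∀ (j : ℕ) (y : F × V × F), y.2.2 = 0 → ((A ^ j) y).2.1 = (((D.ρ t.u : V →ₗ[F] V) - 1) ^ j) y.2.1 ∧
      ((A ^ j) y).2.2 = 0 := by
    intro j
    induction j with
    | zero => intro y hy; exact ⟨rfl, hy⟩
    | succ j ih =>
      intro y hy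
      rw [pow_succ' A, pow_succ', Module.End.mul_apply, Module.End.mul_apply, h1, ← (ih y hy).1, (ih y hy).2]
      simp
  refine ⟨k + 2, LinearMap.ext fun y => ?_⟩
  have h3 : (A y).2.2 = 0 := by rw [h1]
  obtain ⟨h4, h5⟩ := h2 k (A y) h3
  rw [hk, LinearMap.zero_apply] at h4
  have h6 : A ^ (k + 2) = A * A ^ k * A := by
    rw [pow_succ, pow_succ']
  rw [h6, Module.End.mul_apply, Module.End.mul_apply, h1, h4, h5]
  simp [D.frm.zero_left]

end Heis

end Cfsg.Agent.H624.SlU
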