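import Cfsg.Agent.H624.SlU.Sum
import Mathlib.Algebra.Polynomial.Eval.Defs

/-!
# S4537 (T4-U): the induction
-/

set_option autoImplicit false
set_option linter.unusedSectionVars false

namespace Cfsg.Agent.H624.SlU

open Module Cfsg.Agent.H951 Polynomial

universe u

/-- the statement proved by induction on the dimension -/
def HasW (F : Type u) [Field F] (σ : F →+* F) (q n : ℕ) : Prop :=
  ∃ (V : Type u) (_ : AddCommGroup V) (_ : Module F V) (_ : Finite V) (h : V → V → F) (U : Type u)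
    (_ : Group U) (_ : Finite U) (D : Dat σ h U) (ψ : U →* ℂˣ) (e : V),
    finrank F V = n ∧ (∀ u, (∀ v, h u v = 0) → u = 0) ∧ Function.Injective D.ρ ∧
    (∀ u, IsNilpotent ((D.ρ u : V →ₗ[F] V) - 1)) ∧ (∀ u, D.ρ u e = e) ∧ e ≠ 0 ∧
    Nat.card U = q ^ (∑ i ∈ Finset.range n, i) ∧
    ∀ y : ℂ, ∑ᶠ u : U, (((ψ u)⁻¹ : ℂˣ) : ℂ) * y ^ kap (D.ρ u) =
      y * ∏ i ∈ Finset.range (n - 1), (y - (-(q : ℂ)) ^ i)

variable {F : Type u} [Field F] [Finite F] {σ : F →+* F} {q : ℕ}

theorem card_range {V : Type u} [AddCommGroup V] [Module F V] [Finite V] (hF : Nat.card F = q ^ 2) (g : V ≃ₗ[F] V) :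
    Nat.card (LinearMap.range ((g : V →ₗ[F] V) - 1)) * (q ^ 2) ^ kap g = (q ^ 2) ^ finrank F V := by
  have h1 := LinearMap.finrank_range_add_finrank_ker ((g : V →ₗ[F] V) - 1)
  rw [Module.natCard_eq_pow_finrank (K := F), hF, ← pow_add]
  congr 1

theorem step (hF : Nat.card F = q ^ 2) (hq : q ≠ 0)
    (hcnt : ∀ s : F, σ s = s → Nat.card {c : F // c + σ c = s} = q) {n : ℕ} (hn : 0 < n)
    (hW : HasW F σ q n) : HasW F σ q (n + 2) := by
  classical
  obtain ⟨V, _, _, _, h, U, _, _, D, ψ, e, hr, hnd, hinj, hnil, hfix, he, hcard, hsum⟩ := hW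
  obtain ⟨ψ₀, hψ₀⟩ : ∃ ψ : AddChar F ℂ, ψ ≠ 1 := by
    have := Fintype.ofFinite F
    obtain ⟨ψ, hψ⟩ := (AddChar.exists_apply_ne_zero (a := (1 : F))).2 one_ne_zero
    refine ⟨ψ, fun h => hψ ?_⟩
    rw [h, AddChar.one_apply]
  have hcV : Nat.card V = (q ^ 2) ^ n := by rw [Module.natCard_eq_pow_finrank (K := F), hF, hr]
  refine ⟨F × V × F, inferInstance, inferInstance, inferInstance, Cfsg.Agent.H624.SlU.hW σ h, Heis D, inferInstance,
    inferInstance, Heis.dat D, Heis.psiW D ψ₀ ψ e hfix, (1, 0, 0), ?_, ndW D.frm hnd, Heis.rho_injective hinj,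
    fun t => Heis.rho_nil t (hnil t.u), Heis.rho_fix, ?_, ?_, ?_⟩
  · rw [finrank_prod, finrank_prod, finrank_self, hr]
    omega
  · intro h0
    exact one_ne_zero (congrArg Prod.fst h0)
  · rw [Heis.card_heis hcnt, hcard, hcV, Finset.sum_range_succ, Finset.sum_range_succ, ← pow_mul, ← pow_succ,
      ← pow_add]
    congr 1
    ring
  · intro y
    have := Fintype.ofFinite F
    have := Fintype.ofFinite V
    have := Fintype.ofFinite U
    have := Fintype.ofFinite (Heis D)
    rw [finsum_eq_sum_of_fintype]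
    have h1 := Heis.sum_heis (D := D) hcnt hnd ψ₀ hψ₀ ψ e hfix he y
    have h2 := hsum (y / (q : ℂ) ^ 2)
    rw [finsum_eq_sum_of_fintype] at h2
    have hq0 : (q : ℂ) ≠ 0 := by exact_mod_cast hq
    change ∑ t : Heis D, (((Heis.psiW D ψ₀ ψ e hfix t)⁻¹ : ℂˣ) : ℂ) * y ^ kap (Heis.rho D t) = _
    rw [h1]
    have h3 : ∀ u : U, (((ψ u)⁻¹ : ℂˣ) : ℂ) *
        ((Nat.card (LinearMap.range ((D.ρ u : V →ₗ[F] V) - 1)) : ℂ) * (y ^ kap (D.ρ u) * ((y - 1) * (y + q)))) =
        ((q : ℂ) ^ 2) ^ n * ((y - 1) * (y + q)) * ((((ψ u)⁻¹ : ℂˣ) : ℂ) * (y / (q : ℂ) ^ 2) ^ kap (D.ρ u)) := by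
      intro u
      have h4 := card_range (F := F) hF (D.ρ u)
      rw [hr] at h4
      have h5 : (Nat.card (LinearMap.range ((D.ρ u : V →ₗ[F] V) - 1)) : ℂ) * ((q : ℂ) ^ 2) ^ kap (D.ρ u) =
          ((q : ℂ) ^ 2) ^ n := by exact_mod_cast h4
      rw [← h5, div_pow]
      field_simp
    rw [Finset.sum_congr rfl fun u _ => h3 u, ← Finset.mul_sum, h2]
    obtain ⟨m, rfl⟩ : ∃ m, n = m + 1 := ⟨n - 1, by omega⟩
    have h6 : m + 1 + 2 - 1 = m + 1 + 1 := by omega
    rw [h6, Nat.add_sub_cancel, Finset.prod_range_succ', Finset.prod_range_succ', pow_zero, zero_add, pow_one]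
    have h7 : ∏ i ∈ Finset.range m, (y - (-(q : ℂ)) ^ (i + 1 + 1)) =
        ((q : ℂ) ^ 2) ^ m * ∏ i ∈ Finset.range m, (y / (q : ℂ) ^ 2 - (-(q : ℂ)) ^ i) := by
      have h8 : ((q : ℂ) ^ 2) ^ m = ∏ _i ∈ Finset.range m, (q : ℂ) ^ 2 := by
        rw [Finset.prod_const, Finset.card_range]
      rw [h8, ← Finset.prod_mul_distrib]
      refine Finset.prod_congr rfl fun i _ => ?_
      rw [mul_sub, mul_div_cancel₀ _ (pow_ne_zero 2 hq0), pow_succ, pow_succ]
      ring
    rw [h7, pow_succ ((q : ℂ) ^ 2) m]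
    field_simp
    ring

/-! ### the base cases -/

theorem finrank_of_unique {V : Type u} [AddCommGroup V] [Module F V] (g : V ≃ₗ[F] V) (hg : ∀ v, g v = v) :
    kap g = finrank F V := by
  have h1 : LinearMap.ker ((g : V →ₗ[F] V) - 1) = ⊤ := by
    rw [eq_top_iff]
    intro v _
    exact (mem_ker_sub_one g v).2 (hg v)
  rw [kap, h1, finrank_top]

theorem base_one (hinv : ∀ a, σ (σ a) = a) : HasW F σ q 1 := by
  classical
  let D : Dat σ (fun a b : F => a * σ b) (PUnit.{u + 1}) :=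
    { frm :=
        { add_left := fun u v w => by ring
          smul_left := fun a u v => by rw [smul_eq_mul]; ring
          herm := fun u v => by rw [map_mul, hinv]; ring
          sigma_sq := hinv
          eps_ne := one_ne_zero }
      ρ := 1
      iso := fun _ _ _ => rfl }
  refine ⟨F, inferInstance, inferInstance, inferInstance, fun a b => a * σ b, PUnit.{u + 1}, inferInstance,
    inferInstance, D, 1, 1, finrank_self F, ?_, fun _ _ _ => rfl, ?_, fun _ => rfl, one_ne_zero, ?_, ?_⟩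
  · intro u hu
    have h1 : u * σ 1 = 0 := hu 1
    rwa [map_one, mul_one] at h1
  · intro _
    refine ⟨1, ?_⟩
    rw [pow_one]
    exact LinearMap.ext fun v => sub_self v
  · simp
  · intro y
    rw [finsum_unique, finrank_of_unique _ (fun _ => rfl), finrank_self]
    simp

/-- the form on `F × F` -/
def h2 (σ : F →+* F) (a b : F × F) : F := a.1 * σ b.2 + a.2 * σ b.1

/-- the elements of trace zero -/
def tz (σ : F →+* F) : AddSubgroup F where
  carrier := {c | c + σ c = 0}
  zero_mem' := by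
    change (0 : F) + σ 0 = 0
    rw [map_zero, add_zero]
  add_mem' := fun {a b} ha hb => by
    change a + b + σ (a + b) = 0
    rw [map_add]
    have ha' : a + σ a = 0 := ha
    have hb' : b + σ b = 0 := hb
    linear_combination ha' + hb'
  neg_mem' := fun {a} ha => by
    change -a + σ (-a) = 0
    rw [map_neg]
    have ha' : a + σ a = 0 := ha
    linear_combination -ha'

theorem frm_two (hinv : ∀ a, σ (σ a) = a) : Frm σ 1 (h2 σ) where
  add_left u v w := by simp only [h2, Prod.fst_add, Prod.snd_add]; ring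
  smul_left a u v := by simp only [h2, Prod.smul_fst, Prod.smul_snd, smul_eq_mul]; ring
  herm u v := by simp only [h2, map_add, map_mul, hinv]; ring
  sigma_sq := hinv
  eps_ne := one_ne_zero

/-- the transvections -/
def tvL (c : F) : (F × F) →ₗ[F] (F × F) where
  toFun y := (y.1 + y.2 * c, y.2)
  map_add' y z := by
    refine Prod.ext ?_ rfl
    simp only [Prod.fst_add, Prod.snd_add]
    ring
  map_smul' a y := by
    refine Prod.ext ?_ rfl
    simp only [Prod.smul_fst, Prod.smul_snd, smul_eq_mul, RingHom.id_apply]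
    ring

theorem tvL_apply (c : F) (y : F × F) : tvL c y = (y.1 + y.2 * c, y.2) := rfl

theorem tvL_add (c d : F) : tvL (c + d) = tvL c ∘ₗ tvL d := by
  refine LinearMap.ext fun y => Prod.ext ?_ rfl
  rw [LinearMap.comp_apply, tvL_apply, tvL_apply, tvL_apply]
  simp only
  ring

theorem tvL_zero : tvL (0 : F) = LinearMap.id := by
  refine LinearMap.ext fun y => Prod.ext ?_ rfl
  rw [tvL_apply]
  simp

/-- the transvection -/
def tv (c : F) : (F × F) ≃ₗ[F] (F × F) :=
  LinearEquiv.ofLinearMap (tvL c) (tvL (-c)) (by rw [← tvL_add, add_neg_cancel, tvL_zero])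
    (by rw [← tvL_add, neg_add_cancel, tvL_zero])

theorem tv_apply (c : F) (y : F × F) : tv c y = (y.1 + y.2 * c, y.2) := rfl

/-- the data for `n = 2` -/
def dat2 (hinv : ∀ a, σ (σ a) = a) : Dat σ (h2 σ) (Multiplicative (tz σ)) where
  frm := frm_two hinv
  ρ :=
    { toFun := fun c => tv (c.toAdd : F)
      map_one' := LinearEquiv.toLinearMap_injective tvL_zero
      map_mul' := fun c d => LinearEquiv.toLinearMap_injective (tvL_add _ _) }
  iso c v w := by
    have hc : (c.toAdd : F) + σ (c.toAdd : F) = 0 := c.toAdd.2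
    change h2 σ (v.1 + v.2 * (c.toAdd : F), v.2) (w.1 + w.2 * (c.toAdd : F), w.2) = _
    simp only [h2, map_add, map_mul]
    linear_combination v.2 * σ w.2 * hc

theorem dat2_apply (hinv : ∀ a, σ (σ a) = a) (c : Multiplicative (tz σ)) (y : F × F) :
    (dat2 hinv).ρ c y = (y.1 + y.2 * (c.toAdd : F), y.2) := rfl

theorem kap_tv {c : F} (hc : c ≠ 0) : kap (tv c) = 1 := by
  let φ : F →ₗ[F] (F × F) := LinearMap.inl F F F
  have h1 : LinearMap.range φ = LinearMap.ker ((tv c : (F × F) →ₗ[F] (F × F)) - 1) := by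
    ext y
    rw [mem_ker_sub_one, tv_apply]
    constructor
    · rintro ⟨a, rfl⟩
      exact Prod.ext (by simp [φ]) rfl
    · intro hy
      have h2 := congrArg Prod.fst hy
      have h3 : y.2 * c = 0 := by simpa using h2
      have h4 : y.2 = 0 := (mul_eq_zero.1 h3).resolve_right hc
      exact ⟨y.1, Prod.ext rfl h4.symm⟩
  rw [kap, ← h1, LinearMap.finrank_range_of_inj LinearMap.inl_injective, finrank_self]

theorem base_two (hinv : ∀ a, σ (σ a) = a) (hq : 2 ≤ q)
    (hcnt : ∀ s : F, σ s = s → Nat.card {c : F // c + σ c = s} = q) : HasW F σ q 2 := by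
  classical
  have hcT : Nat.card (tz σ) = q := hcnt 0 (map_zero σ)
  have hnt : Nontrivial (tz σ) := Finite.one_lt_card_iff_nontrivial.1 (by rw [hcT]; omega)
  obtain ⟨c₀, hc₀⟩ := exists_ne (0 : tz σ)
  obtain ⟨ψ₁, hψ₁⟩ := (AddChar.exists_apply_ne_zero (a := c₀)).2 hc₀
  have hψ : ψ₁ ≠ 0 := by
    intro h0
    apply hψ₁
    rw [h0]
    rfl
  let ψ : Multiplicative (tz σ) →* ℂˣ := MonoidHom.toHomUnits ψ₁.toMonoidHom
  have hψi : ∀ c : Multiplicative (tz σ), (((ψ c)⁻¹ : ℂˣ) : ℂ) = ψ₁ (-c.toAdd) := by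
    intro c
    rw [Units.val_inv_eq_inv_val, AddChar.map_neg_eq_inv]
    rfl
  refine ⟨F × F, inferInstance, inferInstance, inferInstance, h2 σ, Multiplicative (tz σ), inferInstance,
    inferInstance, dat2 hinv, ψ, (1, 0), by rw [finrank_prod, finrank_self], ?_, ?_, ?_, ?_, ?_, ?_, ?_⟩
  · rintro ⟨a, b⟩ hu
    have h3 := hu (0, 1)
    have h4 := hu (1, 0)
    simp only [h2, map_one, map_zero, mul_one, mul_zero, add_zero, zero_add] at h3 h4
    rw [h3, h4]
    rfl
  · intro c d hcd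
    have h3 := congrArg (fun g : (F × F) ≃ₗ[F] (F × F) => (g (0, 1)).1) hcd
    simp only [dat2_apply, zero_add, one_mul] at h3
    exact Multiplicative.toAdd.injective (Subtype.ext h3)
  · intro c
    refine ⟨2, LinearMap.ext fun y => ?_⟩
    have h3 : ∀ z : F × F, (((dat2 hinv).ρ c : (F × F) →ₗ[F] (F × F)) - 1) z = (z.2 * (c.toAdd : F), 0) := by
      intro z
      rw [LinearMap.sub_apply, Module.End.one_apply, LinearEquiv.coe_coe, dat2_apply]
      refine Prod.ext ?_ ?_
      · simp only [Prod.fst_sub]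
        ring
      · simp only [Prod.snd_sub, sub_self]
    rw [pow_two, Module.End.mul_apply, h3, h3, zero_mul]
    rfl
  · intro c
    rw [dat2_apply, zero_mul, add_zero]
  · intro h0
    exact one_ne_zero (congrArg Prod.fst h0)
  · change Nat.card (tz σ) = _
    rw [hcT]
    simp [Finset.sum_range_succ]
  · intro y
    have := Fintype.ofFinite (tz σ)
    have : Fintype (Multiplicative (tz σ)) := Fintype.ofFinite _
    rw [finsum_eq_sum_of_fintype, ← Multiplicative.ofAdd.sum_comp]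
    have h3 : ∀ c : tz σ, (((ψ (Multiplicative.ofAdd c))⁻¹ : ℂˣ) : ℂ) *
        y ^ kap ((dat2 hinv).ρ (Multiplicative.ofAdd c)) =
        ψ₁ (-c) * y + if c = 0 then y ^ 2 - y else 0 := by
      intro c
      rw [hψi, toAdd_ofAdd]
      by_cases hc : c = 0
      · rw [if_pos hc, hc, neg_zero, AddChar.map_zero_eq_one, finrank_of_unique _ (fun v => by
          rw [dat2_apply]; simp), finrank_prod, finrank_self]
        ring
      · rw [if_neg hc, add_zero]
        have h4 : kap ((dat2 hinv).ρ (Multiplicative.ofAdd c)) = 1 :=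
          kap_tv (c := (c : F)) (fun h0 => hc (Subtype.ext h0))
        rw [h4, pow_one]
    have h5 : ∑ c : tz σ, ψ₁ (-c) = ∑ c : tz σ, ψ₁ c := Equiv.sum_comp (Equiv.neg (tz σ)) (fun c => ψ₁ c)
    rw [Finset.sum_congr rfl fun c _ => h3 c, Finset.sum_add_distrib, ← Finset.sum_mul,
      h5, AddChar.sum_eq_zero_iff_ne_zero.2 hψ, zero_mul, zero_add,
      Finset.sum_ite_eq' Finset.univ, if_pos (Finset.mem_univ _)]
    simp
    ring

theorem hasW (hF : Nat.card F = q ^ 2) (hq : 2 ≤ q) (hinv : ∀ a, σ (σ a) = a)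
    (hcnt : ∀ s : F, σ s = s → Nat.card {c : F // c + σ c = s} = q) : ∀ n, 0 < n → HasW F σ q n
  | 0, h => absurd h (lt_irrefl _)
  | 1, _ => base_one hinv
  | 2, _ => base_two hinv hq hcnt
  | n + 3, _ => step hF (by omega) hcnt (Nat.succ_pos n) (hasW hF hq hinv hcnt (n + 1) (Nat.succ_pos n))

end Cfsg.Agent.H624.SlU
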