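import Cfsg.Agent.H624.SlU.Heis

/-!
# S4537 (T4-U): the dimensions of the fixed spaces
-/

set_option autoImplicit false
set_option linter.unusedSectionVars false

namespace Cfsg.Agent.H624.SlU

open Module Cfsg.Agent.H951

universe u

variable {F V : Type u} [Field F] [AddCommGroup V] [Module F V] {σ : F →+* F} {h : V → V → F}
  {U : Type u} [Group U]

/-- the dimension of the fixed space -/
noncomputable def kap (g : V ≃ₗ[F] V) : ℕ := finrank F (LinearMap.ker ((g : V →ₗ[F] V) - 1))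

theorem mem_ker_sub_one (g : V ≃ₗ[F] V) (v : V) : v ∈ LinearMap.ker ((g : V →ₗ[F] V) - 1) ↔ g v = v := by
  rw [LinearMap.mem_ker, LinearMap.sub_apply, Module.End.one_apply, LinearEquiv.coe_coe, sub_eq_zero]

theorem mem_range_sub_one (g : V ≃ₗ[F] V) (v : V) :
    v ∈ LinearMap.range ((g : V →ₗ[F] V) - 1) ↔ ∃ w, g w - w = v := by
  rw [LinearMap.mem_range]
  rfl

/-- `Im (g - 1)` is the orthogonal complement of `Ker (g - 1)`. -/
theorem range_eq_perp [FiniteDimensional F V] (hB : Frm σ 1 h) (hnd : ∀ u, (∀ v, h u v = 0) → u = 0)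
    (g : V ≃ₗ[F] V) (hg : ∀ v w, h (g v) (g w) = h v w) :
    LinearMap.range ((g : V →ₗ[F] V) - 1) = hB.perp (LinearMap.ker ((g : V →ₗ[F] V) - 1)) := by
  have hle : LinearMap.range ((g : V →ₗ[F] V) - 1) ≤ hB.perp (LinearMap.ker ((g : V →ₗ[F] V) - 1)) := by
    intro v hv w hw
    obtain ⟨v', rfl⟩ := (mem_range_sub_one g v).1 hv
    rw [mem_ker_sub_one] at hw
    rw [hB.sub_left, ← hg v' w, hw, sub_self]
  refine Submodule.eq_of_le_of_finrank_eq hle ?_
  have h1 := LinearMap.finrank_range_add_finrank_ker ((g : V →ₗ[F] V) - 1)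
  have h2 := hB.finrank_perp_inf' (U := ⊤) (W := LinearMap.ker ((g : V →ₗ[F] V) - 1)) (by
    intro u _ hu
    by_contra hcon
    push Not at hcon
    exact hu (hnd u fun v => hcon v trivial)) le_top
  rw [inf_top_eq, finrank_top] at h2
  omega

theorem mem_range_iff [FiniteDimensional F V] (hB : Frm σ 1 h) (hnd : ∀ u, (∀ v, h u v = 0) → u = 0)
    (g : V ≃ₗ[F] V) (hg : ∀ v w, h (g v) (g w) = h v w) (x : V) :
    (∃ w, g w - w = x) ↔ ∀ w, g w = w → h w x = 0 := by
  rw [← mem_range_sub_one, range_eq_perp hB hnd g hg, hB.mem_perp']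
  exact forall_congr' fun w => by rw [mem_ker_sub_one]

/-- dimension count, first form -/
theorem finrank_of_iff [FiniteDimensional F V] (N : Submodule F (F × V × F)) (P : Submodule F V)
    (hN : ∀ y, y ∈ N ↔ y.2.1 ∈ P ∧ y.2.2 = 0) : finrank F N = finrank F P + 1 := by
  let φ : (F × P) →ₗ[F] (F × V × F) :=
    { toFun := fun y => (y.1, (y.2 : V), 0)
      map_add' := fun y z => by simp
      map_smul' := fun a y => by simp }
  have h1 : Function.Injective φ := by
    intro y z hyz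
    have h2 := congrArg Prod.fst hyz
    have h3 := congrArg (fun t : F × V × F => t.2.1) hyz
    exact Prod.ext h2 (Subtype.ext h3)
  have h2 : LinearMap.range φ = N := by
    ext y
    rw [hN]
    constructor
    · rintro ⟨z, rfl⟩
      exact ⟨z.2.2, rfl⟩
    · rintro ⟨h3, h4⟩
      exact ⟨(y.1, ⟨y.2.1, h3⟩), Prod.ext rfl (Prod.ext rfl h4.symm)⟩
  rw [← h2, LinearMap.finrank_range_of_inj h1, finrank_prod, finrank_self, add_comm]

/-- dimension count, second form -/
theorem finrank_of_iff' [FiniteDimensional F V] (N : Submodule F (F × V × F)) (P : Submodule F V) (w : V)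
    (hN : ∀ y, y ∈ N ↔ y.2.1 - y.2.2 • w ∈ P) : finrank F N = finrank F P + 2 := by
  let φ : (F × P × F) →ₗ[F] (F × V × F) :=
    { toFun := fun y => (y.1, (y.2.1 : V) + y.2.2 • w, y.2.2)
      map_add' := fun y z => by
        refine Prod.ext rfl (Prod.ext ?_ rfl)
        simp only [Prod.fst_add, Prod.snd_add, Submodule.coe_add, add_smul]
        abel
      map_smul' := fun a y => by
        refine Prod.ext rfl (Prod.ext ?_ rfl)
        simp only [Prod.smul_fst, Prod.smul_snd, RingHom.id_apply, Submodule.coe_smul, smul_add, smul_eq_mul,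
          mul_smul] }
  have h1 : Function.Injective φ := by
    intro y z hyz
    have h2 : y.1 = z.1 := congrArg (fun t : F × V × F => t.1) hyz
    have h3 : (y.2.1 : V) + y.2.2 • w = (z.2.1 : V) + z.2.2 • w := congrArg (fun t : F × V × F => t.2.1) hyz
    have h4 : y.2.2 = z.2.2 := congrArg (fun t : F × V × F => t.2.2) hyz
    rw [h4] at h3
    exact Prod.ext h2 (Prod.ext (Subtype.ext (add_right_cancel h3)) h4)
  have h2 : LinearMap.range φ = N := by
    ext y
    rw [hN]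
    constructor
    · rintro ⟨z, rfl⟩
      change (z.2.1 : V) + z.2.2 • w - z.2.2 • w ∈ P
      rw [add_sub_cancel_right]
      exact z.2.1.2
    · intro h3
      exact ⟨(y.1, ⟨_, h3⟩, y.2.2), Prod.ext rfl (Prod.ext (sub_add_cancel _ _) rfl)⟩
  rw [← h2, LinearMap.finrank_range_of_inj h1, finrank_prod, finrank_prod, finrank_self]
  omega

/-- a nonzero functional -/
theorem finrank_inf_ker [FiniteDimensional F V] (K : Submodule F V) (f : V →ₗ[F] F)
    (hf : ∃ w ∈ K, f w ≠ 0) : finrank F (K ⊓ LinearMap.ker f : Submodule F V) + 1 = finrank F K := by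
  obtain ⟨w, hw, hfw⟩ := hf
  have h1 := LinearMap.finrank_range_add_finrank_ker (f.domRestrict K)
  have h2 : LinearMap.range (f.domRestrict K) = ⊤ := by
    rw [LinearMap.range_eq_top]
    intro a
    refine ⟨(a * (f w)⁻¹) • ⟨w, hw⟩, ?_⟩
    rw [map_smul, LinearMap.domRestrict_apply, smul_eq_mul, inv_mul_cancel_right₀ hfw]
  have h3 : finrank F (LinearMap.ker (f.domRestrict K)) = finrank F (K ⊓ LinearMap.ker f : Submodule F V) := by
    rw [LinearMap.ker_domRestrict, ← Submodule.map_comap_subtype]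
    exact (Submodule.finrank_map_subtype_eq _ _).symm
  rw [h2, finrank_top, finrank_self, h3] at h1
  omega

namespace Heis

variable {D : Dat σ h U}

theorem mem_ker_iff (t : Heis D) (y : F × V × F) :
    y ∈ LinearMap.ker ((rho D t : (F × V × F) →ₗ[F] (F × V × F)) - 1) ↔
      y.2.2 * t.c = h (D.ρ t.u y.2.1) t.x ∧ D.ρ t.u y.2.1 + y.2.2 • t.x = y.2.1 := by
  rw [mem_ker_sub_one, rho_apply]
  constructor
  · intro hy
    have h1 : y.1 - h (D.ρ t.u y.2.1) t.x + y.2.2 * t.c = y.1 := congrArg Prod.fst hy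
    have h2 : D.ρ t.u y.2.1 + y.2.2 • t.x = y.2.1 := congrArg (fun t : F × V × F => t.2.1) hy
    exact ⟨by linear_combination h1, h2⟩
  · rintro ⟨h1, h2⟩
    exact Prod.ext (by simp only; linear_combination h1) (Prod.ext h2 rfl)

/-- the case `x ∉ Im (u - 1)` -/
theorem kap_A [FiniteDimensional F V] (hnd : ∀ u, (∀ v, h u v = 0) → u = 0) (t : Heis D)
    (hx : ¬ ∃ w, D.ρ t.u w - w = t.x) : kap (rho D t) = kap (D.ρ t.u) := by
  have h1 : ∃ w ∈ LinearMap.ker ((D.ρ t.u : V →ₗ[F] V) - 1), h w t.x ≠ 0 := by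
    rw [mem_range_iff D.frm hnd _ (D.iso t.u)] at hx
    push Not at hx
    obtain ⟨w, hw, hw'⟩ := hx
    exact ⟨w, (mem_ker_sub_one _ _).2 hw, hw'⟩
  let f : V →ₗ[F] F :=
    { toFun := fun w => h w t.x
      map_add' := fun v w => D.frm.add_left _ _ _
      map_smul' := fun a v => D.frm.smul_left _ _ _ }
  have h2 := finrank_inf_ker (LinearMap.ker ((D.ρ t.u : V →ₗ[F] V) - 1)) f h1
  rw [kap, kap, ← h2]
  refine finrank_of_iff _ _ fun y => ?_
  rw [mem_ker_iff, Submodule.mem_inf, mem_ker_sub_one, LinearMap.mem_ker]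
  change _ ↔ (_ ∧ h y.2.1 t.x = 0) ∧ _
  constructor
  · rintro ⟨h3, h4⟩
    have h5 : y.2.2 = 0 := by
      by_contra hb
      apply hx
      refine ⟨-(y.2.2)⁻¹ • y.2.1, ?_⟩
      have h6 : t.x = (y.2.2)⁻¹ • (y.2.2 • t.x) := by rw [smul_smul, inv_mul_cancel₀ hb, one_smul]
      have h7 : y.2.2 • t.x = y.2.1 - D.ρ t.u y.2.1 := by
        rw [eq_sub_iff_add_eq, add_comm]
        exact h4
      rw [h6, h7, map_smul, smul_sub, neg_smul, neg_smul]
      abel
    rw [h5, zero_smul, add_zero] at h4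
    rw [h5, zero_mul, h4] at h3
    exact ⟨⟨h4, h3.symm⟩, h5⟩
  · rintro ⟨⟨h3, h4⟩, h5⟩
    rw [h5, zero_mul, zero_smul, add_zero, h3]
    exact ⟨h4.symm, rfl⟩

theorem ker_perp [FiniteDimensional F V] (t : Heis D) (w₁ : V) (hx : w₁ - D.ρ t.u w₁ = t.x) (k : V)
    (hk : D.ρ t.u k = k) : h k t.x = 0 := by
  rw [← hx, D.frm.sub_right]
  conv_lhs => rw [← D.iso t.u k w₁, hk]
  rw [sub_self]

/-- the case `x = w₁ - u w₁`, `c ≠ h (u w₁) x` -/
theorem kap_C [FiniteDimensional F V] (t : Heis D) (w₁ : V) (hx : w₁ - D.ρ t.u w₁ = t.x)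
    (hc : t.c ≠ h (D.ρ t.u w₁) t.x) : kap (rho D t) = kap (D.ρ t.u) + 1 := by
  refine finrank_of_iff _ _ fun y => ?_
  rw [mem_ker_iff, mem_ker_sub_one]
  constructor
  · rintro ⟨h3, h4⟩
    -- `y.2.1 = b w₁ + k`
    set k := y.2.1 - y.2.2 • w₁ with hk
    have h5 : y.2.1 = k + y.2.2 • w₁ := by rw [hk, sub_add_cancel]
    have h6 : D.ρ t.u k = k := by
      rw [hk, map_sub, map_smul, sub_eq_iff_eq_add]
      rw [← hx, smul_sub] at h4
      nth_rewrite 2 [← h4]
      abel
    have h7 : h (D.ρ t.u y.2.1) t.x = y.2.2 * h (D.ρ t.u w₁) t.x := by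
      rw [h5, map_add, map_smul, D.frm.add_left, D.frm.smul_left, h6, ker_perp t w₁ hx k h6, zero_add]
    rw [h7] at h3
    have h8 : y.2.2 = 0 := by
      have h9 : y.2.2 * (t.c - h (D.ρ t.u w₁) t.x) = 0 := by rw [mul_sub, h3, sub_self]
      rcases mul_eq_zero.1 h9 with h10 | h10
      · exact h10
      · exact absurd (sub_eq_zero.1 h10) hc
    rw [h8, zero_smul, add_zero] at h4
    exact ⟨h4, h8⟩
  · rintro ⟨h3, h4⟩
    rw [h4, zero_mul, zero_smul, add_zero, h3, ker_perp t w₁ hx _ h3]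
    exact ⟨rfl, rfl⟩

/-- the case `x = w₁ - u w₁`, `c = h (u w₁) x` -/
theorem kap_B [FiniteDimensional F V] (t : Heis D) (w₁ : V) (hx : w₁ - D.ρ t.u w₁ = t.x)
    (hc : t.c = h (D.ρ t.u w₁) t.x) : kap (rho D t) = kap (D.ρ t.u) + 2 := by
  refine finrank_of_iff' _ _ w₁ fun y => ?_
  rw [mem_ker_iff, mem_ker_sub_one]
  constructor
  · rintro ⟨-, h4⟩
    rw [map_sub, map_smul, sub_eq_iff_eq_add]
    rw [← hx, smul_sub] at h4
    nth_rewrite 2 [← h4]
    abel
  · intro h6
    set k := y.2.1 - y.2.2 • w₁ with hk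
    have h5 : y.2.1 = k + y.2.2 • w₁ := by rw [hk, sub_add_cancel]
    constructor
    · rw [h5, map_add, map_smul, D.frm.add_left, D.frm.smul_left, h6, ker_perp t w₁ hx k h6, zero_add, hc]
    · rw [← hx, h5, map_add, map_smul, smul_sub, h6]
      abel

end Heis

end Cfsg.Agent.H624.SlU
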