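import Cfsg.Agent.H624.SlU.LemA
import Cfsg.Agent.H623.GU.GeoA

/-!
# S4537: Lemma A for a tower
-/

set_option autoImplicit false
set_option linter.unusedSectionVars false

open Cfsg

namespace Cfsg.Agent.H624.SlU

open Cfsg.Agent.H577.GLB.Std Cfsg.Agent.H614 Cfsg.Agent.H614.GLn
open Cfsg.Agent.H112.GLB Cfsg.Agent.H608.BlockRank
open Cfsg.Agent.Blocks.Local Cfsg.Agent.Blocks.Basic Cfsg.Agent.H624.Sl Cfsg.Agent.H623.GU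
open Cfsg.Agent.H615.GU (Ty Orb orbSetoid dOrb tdeg)

universe u

variable {K : Type u} [Field K] {θ : K →*₀ ℂ} {Q : ℤ} {M : ℕ} [NeZero M] {N p : ℕ} {G : ℕ → Type u}
  [∀ n, Group (G n)] [∀ n, Finite (G n)]

theorem geoA_of_geoAll {𝔐 : Ideal AlgInt} [𝔐.IsPrime] {t : Tow θ Q M N p G} {ζ : ∀ n, G n →* ℂˣ} {a : ZMod M}
    {A : ℕ → Prop} (h : GeoAll 𝔐 t ζ a A) : GeoA t.R 𝔐 ζ a (fun n hn => (t.T n hn).typ) A := by
  intro s f k l n hl hn hf hf0 hk hpk hln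
  obtain ⟨X₁, i1, i2, T₁, h₁, j, u, c, hd⟩ := h s f k l n hl hn hf hf0 hk hpk hln
  exact ⟨X₁, i1, i2, h₁.rz, j, u, T₁.typ, hd.gr, hd.bij k le_rfl, hd.inj, hd.ppow, hd.range, hd.val, hd.inr, hd.typ,
    fun x y hxy => T₁.sep x y hxy, T₁.deg, hd.conv, hd.twist,
    fun δ θ₀ hδ _ hθ hf => hd.whit δ θ₀ hδ hθ hf⟩

/-- **Lemma A** for a tower. -/
theorem lemmaA_tow [Finite K] {t : Tow θ Q M N p G} {𝔐 : Ideal AlgInt} [𝔐.IsPrime]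
    (hQ : IsUnit (Q : ZMod M)) (hQp : IsUnit (Q : ZMod p)) (h𝔐 : IsPModular p 𝔐)
    (ζ : ∀ n, G n →* ℂˣ) (hζ : ∀ n, n ≤ N → PPrime p (ζ n)) (a : ZMod M)
    (hl : ∀ n (hn : n ≤ N), ∀ x ∈ Hom Q M n,
      (t.R n hn).om (twist Q M a x) = (fun g => ((ζ n g : ℂˣ) : ℂ)) * (t.R n hn).om x) (A : ℕ → Prop)
    (hLA : ∀ n (hn : n ≤ N) (g : G n), (∀ (x : Kˣ) (i : ℕ), (t.T n hn).typ g (Quotient.mk (orbSetoid K Q) x) i ≠
      (t.T n hn).typ g (Quotient.mk (orbSetoid K Q) x) (i + 1) → A (i + 1)) →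
        Subgroup.centralizer ({g} : Set (G n)) ≤ (ζ n).ker)
    (hLA' : ∀ n (hn : n ≤ N) (g : G n), Subgroup.centralizer ({g} : Set (G n)) ≤ (ζ n).ker →
      ∀ (x : Kˣ) (i : ℕ), (t.T n hn).typ g (Quotient.mk (orbSetoid K Q) x) i ≠
        (t.T n hn).typ g (Quotient.mk (orbSetoid K Q) x) (i + 1) → A (i + 1))
    (hgeo : GeoAll 𝔐 t ζ a A) {m n : ℕ} (hn : n ≤ N) (hm : n ≤ m)
    {B : Set (IrrCharacter (G n))} (hB : IsPBlock 𝔐 B) {χ : IrrCharacter (G n)} (hχ : χ ∈ B) {lab : LabZ Q M m n}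
    (ht : (t.R n hn).IsLb χ lab) (ht' : POnly M p lab.t) (ha : SF Q M p lab a) :
    ∃ x, Nz 𝔐 (ζ n) B x := by
  refine lemmaA_abs hQ hQp (fun n m hn hm => t.bij n m hn hm) t.gr h𝔐 ζ hζ a hl (fun n hn => (t.T n hn).typ)
    (fun n hn x y hxy => ?_) (fun n hn x y hxy => (t.T n hn).sep x y hxy) (fun n hn => (t.T n hn).deg) A hLA hLA'
    (geoA_of_geoAll hgeo) _ hn hm hB hχ ht ht' ha rfl
  obtain ⟨c, rfl⟩ := isConj_iff.1 hxy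
  exact ((t.T n hn).conj x c).symm

end Cfsg.Agent.H624.SlU
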