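import Cfsg.Agent.H624.SlU.Ker
import Mathlib.Algebra.Group.AddChar
import Mathlib.Analysis.Complex.Basic

/-!
# S4537 (T4-U): the sum over `Heis D`
-/

set_option autoImplicit false
set_option linter.unusedSectionVars false

namespace Cfsg.Agent.H624.SlU

open Module Cfsg.Agent.H951

universe u

variable {F V : Type u} [Field F] [AddCommGroup V] [Module F V] {σ : F →+* F} {h : V → V → F}
  {U : Type u} [Group U]

namespace Heis

/-- the linear character of `Heis D` -/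
noncomputable def psiW (D : Dat σ h U) (ψ₀ : AddChar F ℂ) (ψ : U →* ℂˣ) (e : V) (he : ∀ u, D.ρ u e = e) :
    Heis D →* ℂˣ :=
  MonoidHom.toHomUnits
    { toFun := fun t => ψ₀ (h t.x e) * (ψ t.u : ℂ)
      map_one' := by
        rw [one_x, one_u, D.frm.zero_left, AddChar.map_zero_eq_one, map_one, Units.val_one, mul_one]
      map_mul' := fun s t => by
        have h1 : h (D.ρ s.u t.x) e = h t.x e := by
          conv_lhs => rw [← he s.u]
          exact D.iso _ _ _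
        rw [mul_x, mul_u, D.frm.add_left, h1, AddChar.map_add_eq_mul, map_mul, Units.val_mul]
        ring }

theorem psiW_inv (D : Dat σ h U) (ψ₀ : AddChar F ℂ) (ψ : U →* ℂˣ) (e : V) (he : ∀ u, D.ρ u e = e)
    (t : Heis D) : (((psiW D ψ₀ ψ e he t)⁻¹ : ℂˣ) : ℂ) = ψ₀ (h (-t.x) e) * ((ψ t.u)⁻¹ : ℂˣ) := by
  have h1 : (((psiW D ψ₀ ψ e he t) : ℂˣ) : ℂ) = ψ₀ (h t.x e) * (ψ t.u : ℂ) := rfl
  rw [Units.val_inv_eq_inv_val, h1, mul_inv, Units.val_inv_eq_inv_val, D.frm.neg_left,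
    AddChar.map_neg_eq_inv]

/-- the triples -/
def sigE (D : Dat σ h U) : Heis D ≃ Σ _ : U, Σ x : V, {c : F // c + σ c + h x x = 0} where
  toFun t := ⟨t.u, t.x, t.c, t.eq⟩
  invFun s := mk s.2.1 s.2.2.1 s.1 s.2.2.2
  left_inv _ := rfl
  right_inv _ := rfl

instance [Finite F] [Finite V] [Finite U] (D : Dat σ h U) : Finite (Heis D) :=
  inferInstanceAs (Finite {t : V × F × U // t.2.1 + σ t.2.1 + h t.1 t.1 = 0})

variable {D : Dat σ h U}

theorem card_fib {q : ℕ} (hcnt : ∀ s : F, σ s = s → Nat.card {c : F // c + σ c = s} = q) (hB : Frm σ 1 h) (x : V) :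
    Nat.card {c : F // c + σ c + h x x = 0} = q := by
  have h1 : ∀ c : F, c + σ c + h x x = 0 ↔ c + σ c = - h x x := fun c => by rw [eq_neg_iff_add_eq_zero]
  rw [Nat.card_congr (Equiv.subtypeEquivRight h1)]
  refine hcnt _ ?_
  rw [map_neg, herm' hB]

theorem card_heis [Finite F] [Finite V] [Finite U] {q : ℕ}
    (hcnt : ∀ s : F, σ s = s → Nat.card {c : F // c + σ c = s} = q) :
    Nat.card (Heis D) = Nat.card U * (Nat.card V * q) := by
  have := Fintype.ofFinite F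
  have := Fintype.ofFinite V
  have := Fintype.ofFinite U
  rw [Nat.card_congr (sigE D), Nat.card_sigma]
  have h1 : ∀ u : U, Nat.card (Σ x : V, {c : F // c + σ c + h x x = 0}) = Nat.card V * q := by
    intro _
    rw [Nat.card_sigma, Finset.sum_congr rfl fun x _ => card_fib hcnt D.frm x, Finset.sum_const,
      Finset.card_univ, smul_eq_mul, Nat.card_eq_fintype_card]
  rw [Finset.sum_congr rfl fun u _ => h1 u, Finset.sum_const, Finset.card_univ, smul_eq_mul,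
    Nat.card_eq_fintype_card (α := U)]

/-- the distinguished scalar -/
theorem c0_eq (u : U) (w₁ x : V) (hx : w₁ - D.ρ u w₁ = x) :
    h (D.ρ u w₁) x + σ (h (D.ρ u w₁) x) + h x x = 0 := by
  rw [herm' D.frm]
  rw [← hx]
  simp only [D.frm.sub_left, D.frm.sub_right, D.iso]
  ring

open Classical in
/-- the sum over the scalars -/
theorem sum_c [Fintype F] [FiniteDimensional F V] {q : ℕ}
    (hcnt : ∀ s : F, σ s = s → Nat.card {c : F // c + σ c = s} = q)
    (hnd : ∀ u, (∀ v, h u v = 0) → u = 0) (u : U) (x : V) (y : ℂ) :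
    ∑ c : {c : F // c + σ c + h x x = 0}, y ^ kap (rho D (mk x c.1 u c.2)) =
      if ∃ w, D.ρ u w - w = x then y ^ (kap (D.ρ u) + 2) + (q - 1) * y ^ (kap (D.ρ u) + 1)
      else q * y ^ kap (D.ρ u) := by
  have hcard := card_fib hcnt D.frm x
  rw [Nat.card_eq_fintype_card] at hcard
  by_cases hx : ∃ w, D.ρ u w - w = x
  · rw [if_pos hx]
    obtain ⟨w, hw⟩ := hx
    have hw1 : (-w) - D.ρ u (-w) = x := by rw [map_neg, ← hw]; abel
    let c₀ : {c : F // c + σ c + h x x = 0} := ⟨h (D.ρ u (-w)) x, c0_eq u (-w) x hw1⟩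
    rw [← Finset.add_sum_erase _ _ (Finset.mem_univ c₀)]
    have h1 : kap (rho D (mk x c₀.1 u c₀.2)) = kap (D.ρ u) + 2 := kap_B (mk x c₀.1 u c₀.2) (-w) hw1 rfl
    have h2 : ∀ c ∈ Finset.univ.erase c₀, y ^ kap (rho D (mk x c.1 u c.2)) = y ^ (kap (D.ρ u) + 1) := by
      intro c hc
      have h3 : c ≠ c₀ := (Finset.mem_erase.1 hc).1
      rw [kap_C (mk x c.1 u c.2) (-w) hw1 (fun h4 => h3 (Subtype.ext h4))]
      rfl
    rw [h1, Finset.sum_congr rfl h2, Finset.sum_const, Finset.card_erase_of_mem (Finset.mem_univ _),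
      Finset.card_univ, hcard, nsmul_eq_mul]
    have h5 : 0 < q := by rw [← hcard]; exact Fintype.card_pos_iff.2 ⟨c₀⟩
    rw [Nat.cast_sub h5, Nat.cast_one]
  · rw [if_neg hx]
    have h2 : ∀ c ∈ (Finset.univ : Finset {c : F // c + σ c + h x x = 0}),
        y ^ kap (rho D (mk x c.1 u c.2)) = y ^ kap (D.ρ u) := by
      intro c _
      rw [kap_A hnd (mk x c.1 u c.2) hx]
      rfl
    rw [Finset.sum_congr rfl h2, Finset.sum_const, Finset.card_univ, hcard, nsmul_eq_mul]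

/-- the additive character of `V` -/
noncomputable def chV (hB : Frm σ 1 h) (ψ₀ : AddChar F ℂ) (e : V) : AddChar V ℂ :=
  ψ₀.compAddMonoidHom
    { toFun := fun x => h (-x) e
      map_zero' := by rw [neg_zero, hB.zero_left]
      map_add' := fun x y => by rw [neg_add, hB.add_left] }

theorem chV_apply (hB : Frm σ 1 h) (ψ₀ : AddChar F ℂ) (e x : V) : chV hB ψ₀ e x = ψ₀ (h (-x) e) := rfl

theorem chV_ne (hB : Frm σ 1 h) (hnd : ∀ u, (∀ v, h u v = 0) → u = 0) (ψ₀ : AddChar F ℂ) (hψ : ψ₀ ≠ 1)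
    {e : V} (he : e ≠ 0) : chV hB ψ₀ e ≠ 0 := by
  intro h0
  apply hψ
  obtain ⟨v, hv⟩ : ∃ v, h v e ≠ 0 := by
    by_contra hcon
    push Not at hcon
    exact he (hnd e fun v => hB.eq_zero_comm.1 (hcon v))
  refine DFunLike.ext _ _ fun a => ?_
  have h1 := DFunLike.congr_fun h0 (-((a * (h v e)⁻¹) • v))
  rw [chV_apply, neg_neg, hB.smul_left, inv_mul_cancel_right₀ hv] at h1
  exact h1

open Classical in
/-- the sum over `Heis D` -/
theorem sum_heis [Fintype F] [Fintype V] [Fintype U] [Fintype (Heis D)] {q : ℕ}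
    (hcnt : ∀ s : F, σ s = s → Nat.card {c : F // c + σ c = s} = q)
    (hnd : ∀ u, (∀ v, h u v = 0) → u = 0) (ψ₀ : AddChar F ℂ) (hψ₀ : ψ₀ ≠ 1) (ψ : U →* ℂˣ) (e : V)
    (he : ∀ u, D.ρ u e = e) (he0 : e ≠ 0) (y : ℂ) :
    ∑ t : Heis D, (((psiW D ψ₀ ψ e he t)⁻¹ : ℂˣ) : ℂ) * y ^ kap (rho D t) =
      ∑ u : U, (((ψ u)⁻¹ : ℂˣ) : ℂ) * ((Nat.card (LinearMap.range ((D.ρ u : V →ₗ[F] V) - 1)) : ℂ) *
        (y ^ kap (D.ρ u) * ((y - 1) * (y + q)))) := by
  rw [← (sigE D).symm.sum_comp, Fintype.sum_sigma]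
  refine Finset.sum_congr rfl fun u _ => ?_
  rw [Fintype.sum_sigma]
  have h1 : ∀ x : V, ∑ c : {c : F // c + σ c + h x x = 0},
      (((psiW D ψ₀ ψ e he ((sigE D).symm ⟨u, ⟨x, c⟩⟩))⁻¹ : ℂˣ) : ℂ) * y ^ kap (rho D ((sigE D).symm ⟨u, ⟨x, c⟩⟩)) =
      (((ψ u)⁻¹ : ℂˣ) : ℂ) * (chV D.frm ψ₀ e x * (q * y ^ kap (D.ρ u)) +
        (if ∃ w, D.ρ u w - w = x then y ^ kap (D.ρ u) * ((y - 1) * (y + q)) else 0)) := by
    intro x
    have h2 : ∀ c : {c : F // c + σ c + h x x = 0},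
        (((psiW D ψ₀ ψ e he ((sigE D).symm ⟨u, ⟨x, c⟩⟩))⁻¹ : ℂˣ) : ℂ) *
          y ^ kap (rho D ((sigE D).symm ⟨u, ⟨x, c⟩⟩)) =
        (((ψ u)⁻¹ : ℂˣ) : ℂ) * chV D.frm ψ₀ e x * y ^ kap (rho D (mk x c.1 u c.2)) := by
      intro c
      rw [psiW_inv, chV_apply]
      change ψ₀ (h (-x) e) * (((ψ u)⁻¹ : ℂˣ) : ℂ) * y ^ kap (rho D (mk x c.1 u c.2)) = _
      ring
    rw [Finset.sum_congr rfl fun c _ => h2 c, ← Finset.mul_sum, sum_c hcnt hnd, mul_assoc]
    congr 1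
    by_cases hx : ∃ w, D.ρ u w - w = x
    · rw [if_pos hx, if_pos hx]
      have h3 : chV D.frm ψ₀ e x = 1 := by
        obtain ⟨w, hw⟩ := hx
        have h4 : h (D.ρ u w) e = h w e := by
          conv_lhs => rw [← he u]
          exact D.iso _ _ _
        rw [chV_apply, D.frm.neg_left, ← hw, D.frm.sub_left, h4, sub_self, neg_zero, AddChar.map_zero_eq_one]
      rw [h3]
      ring
    · rw [if_neg hx, if_neg hx, add_zero]
  rw [Finset.sum_congr rfl fun x _ => h1 x, ← Finset.mul_sum, Finset.sum_add_distrib, ← Finset.sum_mul,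
    AddChar.sum_eq_zero_iff_ne_zero.2 (chV_ne D.frm hnd ψ₀ hψ₀ he0), zero_mul, zero_add, ← Finset.sum_filter,
    Finset.sum_const, nsmul_eq_mul]
  congr 3
  rw [Nat.card_eq_fintype_card, Fintype.card_subtype]
  congr 1
  ext x
  rw [Finset.mem_filter, Finset.mem_filter, mem_range_sub_one]

end Heis

end Cfsg.Agent.H624.SlU
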